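import Cfsg.Agent.Lib.MaxSub.Subfield

/-!
The special linear group in dimension at least three lies in no geometric subgroup.
-/

set_option autoImplicit false
set_option linter.style.haveILetI false
set_option linter.unusedSimpArgs false

namespace Cfsg.Agent.Lib.KnownA.PrimeDim

open Matrix Cfsg.Agent.Lib.MaxSub
open scoped Matrix commutatorElement

variable {n : ℕ} {F : Type*} [Field F]

local notation "GLn" => Matrix.GeneralLinearGroup (Fin n) F
local notation "SS" => Cfsg.Geo.specialLinear (Fin n) F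
local notation "ZZ" => Cfsg.Geo.scalars (Fin n) F
local notation "VV" => (Fin n → F)

theorem comm_mul_central {G : Type*} [Group G] {x y z w : G} (hz : ∀ g : G, g * z = z * g)
    (hw : ∀ g : G, g * w = w * g) : ⁅x * z, y * w⁆ = ⁅x, y⁆ := by
  calc ⁅x * z, y * w⁆ = x * (z * (y * w * z⁻¹)) * x⁻¹ * w⁻¹ * y⁻¹ := by rw [commutatorElement_def]; group
    _ = x * ((y * w * z⁻¹) * z) * x⁻¹ * w⁻¹ * y⁻¹ := by rw [hz]
    _ = x * y * (w * x⁻¹) * w⁻¹ * y⁻¹ := by group
    _ = x * y * (x⁻¹ * w) * w⁻¹ * y⁻¹ := by rw [hw]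
    _ = ⁅x, y⁆ := by rw [commutatorElement_def]; group

theorem range_toGL : (Matrix.SpecialLinearGroup.toGL : Matrix.SpecialLinearGroup (Fin n) F →* GLn).range = SS := by
  ext g
  constructor
  · rintro ⟨s, rfl⟩
    exact MonoidHom.mem_ker.mpr (Units.ext s.2)
  · intro hg
    exact ⟨⟨(g : Matrix (Fin n) (Fin n) F), congrArg Units.val (MonoidHom.mem_ker.mp hg)⟩, Units.ext rfl⟩

theorem SS_perfect (hn : 3 ≤ n) : ⁅SS, SS⁆ = SS := by
  rw [← range_toGL, MonoidHom.range_eq_map, ← Subgroup.map_commutator]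
  exact congrArg _ (Cfsg.Agent.Lib.Classical.commutator_SL_eq_top (by simpa using hn))

theorem eq_inf_of_le {H M : Subgroup GLn} (hH : Cfsg.Geo.IsMaximalIn SS H) (hle : H ≤ M)
    (hnot : ¬ SS ≤ M) : H = M ⊓ SS := by
  rcases hH.2 (M ⊓ SS) (le_inf hle hH.1.le) inf_le_right with h | h
  · exact h.symm
  · exact absurd (h ▸ inf_le_left) hnot

theorem scalars_inf_le (hn : 3 ≤ n) {H : Subgroup GLn} (hH : Cfsg.Geo.IsMaximalIn SS H) :
    ZZ ⊓ SS ≤ H := by
  rcases hH.2 (H ⊔ (ZZ ⊓ SS)) le_sup_left (sup_le hH.1.le inf_le_right) with h | h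
  · exact le_sup_right.trans h.le
  · exfalso
    refine hH.1.ne (le_antisymm hH.1.le ?_)
    conv_lhs => rw [← SS_perfect hn, ← h]
    have hc : ∀ z ∈ ZZ, ∀ g : GLn, g * z = z * g := by
      intro z hz g
      obtain ⟨c, hc⟩ := (Cfsg.Geo.mem_scalars_iff z).mp hz
      exact Units.ext (by rw [Units.val_mul, Units.val_mul, hc]; simp)
    refine Subgroup.commutator_le.mpr fun a ha b hb => ?_
    haveI : (SS).Normal := MonoidHom.normal_ker _
    haveI : (ZZ ⊓ SS).Normal := Subgroup.normal_inf_normal _ _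
    obtain ⟨x, hx, z, hz, rfl⟩ := Subgroup.mem_sup_of_normal_right.mp ha
    obtain ⟨y, hy, w, hw, rfl⟩ := Subgroup.mem_sup_of_normal_right.mp hb
    have h1 := hc z hz.1
    have h2 := hc w hw.1
    have : ⁅x * z, y * w⁆ = ⁅x, y⁆ := comm_mul_central h1 h2
    rw [this, commutatorElement_def]
    exact H.mul_mem (H.mul_mem (H.mul_mem hx hy) (H.inv_mem hx)) (H.inv_mem hy)

/-- The transvection moving `w` by `u`. -/
theorem exists_move {w u : VV} (hw0 : w ≠ 0) (h : u ∉ F ∙ w) :
    ∃ g ∈ SS, (g : Matrix (Fin n) (Fin n) F) *ᵥ w = w + u := by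
  obtain ⟨a, ha, haw⟩ := exists_functional (F ∙ u) (x := w) (by
    intro hw
    obtain ⟨c, hc⟩ := Submodule.mem_span_singleton.mp hw
    rcases eq_or_ne c 0 with rfl | hc0
    · rw [zero_smul] at hc
      exact hw0 hc.symm
    · exact h (Submodule.mem_span_singleton.mpr ⟨c⁻¹, by rw [← hc, smul_smul, inv_mul_cancel₀ hc0, one_smul]⟩))
  refine ⟨_, tv_mem_specialLinear u a (ha u (Submodule.mem_span_singleton_self u)), ?_⟩
  rw [tv_mulVec, haw, one_smul]

theorem not_le_subspaceStabilizer {W : Submodule F VV} (h0 : W ≠ ⊥) (h1 : W ≠ ⊤) :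
    ¬ SS ≤ Cfsg.Geo.subspaceStabilizer W := by
  intro hle
  obtain ⟨w, hw, hw0⟩ := (Submodule.ne_bot_iff W).mp h0
  obtain ⟨u, hu⟩ : ∃ u, u ∉ W := by
    by_contra hc
    push Not at hc
    exact h1 (Submodule.eq_top_iff'.mpr hc)
  obtain ⟨g, hg, hgw⟩ := exists_move hw0 (u := u)
    (fun h => hu ((Submodule.span_singleton_le_iff_mem w W).mpr hw h))
  have := subspaceStabilizer_apply (hle hg) hw
  rw [hgw] at this
  exact hu ((Submodule.add_mem_iff_right W hw).mp this)

/-- The `n` lines of a basis form a decomposition. -/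
theorem isMDecomposition_basis (hn : 3 ≤ n) (b : Module.Basis (Fin n) F VV) :
    Cfsg.Geo.IsMDecomposition 1 fun i => F ∙ b i where
  two_le := by omega
  pos := one_pos
  finrank_eq i := finrank_span_singleton (b.ne_zero i)
  indep := b.linearIndependent.iSupIndep_span_singleton
  iSup_eq_top := by rw [← Submodule.span_range_eq_iSup]; exact b.span_eq

theorem not_le_decompositionStabilizer (hn : 3 ≤ n) (b : Module.Basis (Fin n) F VV) :
    ¬ SS ≤ Cfsg.Geo.decompositionStabilizer fun i => F ∙ b i := by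
  intro hle
  let i : Fin n := ⟨0, by omega⟩
  let j : Fin n := ⟨1, by omega⟩
  have hij : i ≠ j := by simp [i, j, Fin.ext_iff]
  obtain ⟨g, hg, hgw⟩ := exists_move (b.ne_zero i) (u := b j) (by
    intro h
    obtain ⟨c, hc⟩ := Submodule.mem_span_singleton.mp h
    have := congrArg (fun v => b.repr v j) hc
    simp [Ne.symm hij] at this)
  obtain ⟨σ, hσ⟩ := hle hg
  have hm : b i + b j ∈ F ∙ b (σ i) := by
    rw [← show (F ∙ b i).map (Matrix.toLin' (g : Matrix (Fin n) (Fin n) F)) = F ∙ b (σ i) from hσ i, ← hgw]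
    exact ⟨b i, Submodule.mem_span_singleton_self _, by simp [Matrix.toLin'_apply]⟩
  obtain ⟨c, hc⟩ := Submodule.mem_span_singleton.mp hm
  have h1 := congrArg (fun v => b.repr v i) hc
  have h2 := congrArg (fun v => b.repr v j) hc
  simp only [map_smul, map_add, Module.Basis.repr_self, Finsupp.smul_apply, Finsupp.add_apply,
    Finsupp.single_eq_same, smul_eq_mul] at h1 h2
  rw [Finsupp.single_eq_of_ne hij, add_zero] at h1
  rw [Finsupp.single_eq_of_ne hij.symm, zero_add] at h2
  by_cases hσi : σ i = i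
  · rw [hσi, Finsupp.single_eq_of_ne hij.symm, mul_zero] at h2; exact zero_ne_one h2
  · rw [Finsupp.single_eq_of_ne (Ne.symm hσi), mul_zero] at h1; exact zero_ne_one h1

/-- Biadditive forms, linear on the left and `σ`-semilinear on the right. -/
structure Sesq (σ : F ≃+* F) (f : VV → VV → F) : Prop where
  add_left : ∀ x y v, f (x + y) v = f x v + f y v
  smul_left : ∀ (c : F) (x v : VV), f (c • x) v = c * f x v
  add_right : ∀ v x y, f v (x + y) = f v x + f v y
  smul_right : ∀ (c : F) (v x : VV), f v (c • x) = σ c * f v x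

theorem Sesq.of_bilinear {f : VV → VV → F} (h : Cfsg.Geo.IsBilinearForm f) :
    Sesq (RingEquiv.refl F) f :=
  ⟨h.add_left, h.smul_left, h.add_right, fun c v x => h.smul_right c v x⟩

theorem Sesq.of_unitary {σ : F ≃+* F} {f : VV → VV → F} (h : Cfsg.Geo.IsUnitaryForm σ f) :
    Sesq σ f where
  add_left := h.add_left
  smul_left := h.smul_left
  add_right v x y := by rw [h.herm v, h.add_left, map_add, ← h.herm, ← h.herm]
  smul_right c v x := by rw [h.herm v, h.smul_left, map_mul, ← h.herm]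

theorem not_le_similarityGroup (hn : 3 ≤ n) {σ : F ≃+* F} {f : VV → VV → F} (hf : Sesq σ f)
    (hnd : Cfsg.Geo.IsNondegenerateForm f) : ¬ SS ≤ Cfsg.Geo.similarityGroup f := by
  intro hle
  have hiso : ∀ g ∈ SS, ∀ u v : VV,
      f ((g : Matrix (Fin n) (Fin n) F) *ᵥ u) ((g : Matrix (Fin n) (Fin n) F) *ᵥ v) = f u v := by
    let K : Subgroup GLn :=
      { carrier := {g | ∀ u v : VV,
          f ((g : Matrix (Fin n) (Fin n) F) *ᵥ u) ((g : Matrix (Fin n) (Fin n) F) *ᵥ v) = f u v}
        mul_mem' := fun {a b} ha hb u v => by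
          rw [Units.val_mul, ← Matrix.mulVec_mulVec, ← Matrix.mulVec_mulVec, ha, hb]
        one_mem' := fun u v => by simp
        inv_mem' := fun {a} ha u v => by
          conv_rhs => rw [← Matrix.one_mulVec u, ← Matrix.one_mulVec v, ← Units.val_one, ← mul_inv_cancel a,
            Units.val_mul, ← Matrix.mulVec_mulVec, ← Matrix.mulVec_mulVec, ha] }
    suffices SS ≤ K from fun g hg => this hg
    conv_lhs => rw [← SS_perfect hn]
    refine Subgroup.commutator_le.mpr fun a ha b hb u v => ?_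
    obtain ⟨c, hc⟩ := hle ha
    obtain ⟨d, hd⟩ := hle hb
    have hci : ∀ (g : GLn) (k : Fˣ), (∀ u v : VV, f ((g : Matrix (Fin n) (Fin n) F) *ᵥ u)
        ((g : Matrix (Fin n) (Fin n) F) *ᵥ v) = (k : F) * f u v) → ∀ u v : VV,
        f (((g⁻¹ : GLn) : Matrix (Fin n) (Fin n) F) *ᵥ u) (((g⁻¹ : GLn) : Matrix (Fin n) (Fin n) F) *ᵥ v) =
          ((k⁻¹ : Fˣ) : F) * f u v := by
      intro g k hk u v
      conv_rhs => rw [← Matrix.one_mulVec u, ← Matrix.one_mulVec v, ← Units.val_one, ← mul_inv_cancel g,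
        Units.val_mul, ← Matrix.mulVec_mulVec, ← Matrix.mulVec_mulVec, hk]
      rw [← mul_assoc, ← Units.val_mul, inv_mul_cancel, Units.val_one, one_mul]
    rw [commutatorElement_def]
    simp only [Units.val_mul, ← Matrix.mulVec_mulVec]
    rw [hc, hd, hci a c hc, hci b d hd, Units.val_inv_eq_inv_val, Units.val_inv_eq_inv_val]
    field_simp
  have htv : ∀ (a : VV) (φ : VV) (h : φ ⬝ᵥ a = 0) (u v : VV),
      f (u + (φ ⬝ᵥ u) • a) (v + (φ ⬝ᵥ v) • a) = f u v := fun a φ h u v => by
    have := hiso _ (tv_mem_specialLinear a φ h) u v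
    rwa [tv_mulVec, tv_mulVec] at this
  haveI : Nontrivial VV := by
    haveI : Nonempty (Fin n) := ⟨⟨0, by omega⟩⟩
    infer_instance
  obtain ⟨a, ha0⟩ := exists_ne (0 : VV)
  obtain ⟨x, hx⟩ := (hnd a ha0).2
  have hspan : Submodule.span F ({a, x} : Set VV) ≠ ⊤ := by
    intro h
    have h2 : Module.finrank F (Submodule.span F ({a, x} : Set VV)) ≤ 2 := by
      classical
      have := finrank_span_finset_le_card (R := F) ({a, x} : Finset VV)
      simp only [Finset.coe_insert, Finset.coe_singleton] at this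
      exact this.trans Finset.card_le_two
    rw [h, finrank_top, Module.finrank_fin_fun] at h2
    omega
  obtain ⟨u, hu⟩ : ∃ u, u ∉ Submodule.span F ({a, x} : Set VV) := by
    by_contra hc
    push Not at hc
    exact hspan (Submodule.eq_top_iff'.mpr hc)
  obtain ⟨φ, hφ, hφu⟩ := exists_functional _ hu
  have hφa := hφ a (Submodule.subset_span (by simp))
  have hφx := hφ x (Submodule.subset_span (by simp))
  have h3 := htv a φ hφa u x
  rw [hφu, one_smul, hφx, zero_smul, add_zero, hf.add_left] at h3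
  exact hx (by simpa using h3)

theorem polar_apply_self {Q : VV → F} (hQ : Cfsg.Geo.IsNondegenerateQuadraticForm Q) (v : VV) :
    QuadraticMap.polar Q v v = 2 * Q v := by
  unfold QuadraticMap.polar
  rw [show v + v = (2 : F) • v by rw [two_smul], hQ.smul]
  ring

theorem quadSimilarity_le {Q : VV → F} :
    Cfsg.Geo.quadSimilarityGroup Q ≤ Cfsg.Geo.similarityGroup (QuadraticMap.polar Q) := by
  rintro g ⟨c, hc⟩
  refine ⟨c, fun u v => ?_⟩
  unfold QuadraticMap.polar
  rw [← Matrix.mulVec_add, hc, hc, hc]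
  ring

theorem not_le_quadSimilarityGroup (hn : 3 ≤ n) {Q : VV → F} (hQ : Cfsg.Geo.IsNondegenerateQuadraticForm Q) :
    ¬ SS ≤ Cfsg.Geo.quadSimilarityGroup Q := fun h =>
  not_le_similarityGroup hn (Sesq.of_bilinear hQ.polar_bilinear) hQ.nondegenerate (h.trans quadSimilarity_le)

theorem not_le_subfieldSubgroup (hn : 3 ≤ n) {F₀ : Subfield F} (h0 : F₀ ≠ ⊤) (P : GLn) :
    ¬ SS ≤ Cfsg.Geo.subfieldSubgroup F₀ P := by
  intro hle
  obtain ⟨t, ht⟩ : ∃ t : F, t ∉ F₀ := by
    by_contra hc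
    push Not at hc
    exact h0 (eq_top_iff.mpr fun x _ => hc x)
  let i : Fin n := ⟨0, by omega⟩
  let j : Fin n := ⟨1, by omega⟩
  have hij : i ≠ j := by simp [i, j, Fin.ext_iff]
  have hd : (Pi.single j t : VV) ⬝ᵥ Pi.single i 1 = 0 := by simp [hij]
  have hn' : (SS).Normal := MonoidHom.normal_ker _
  have hmem := hn'.conj_mem _ (tv_mem_specialLinear _ _ hd) P
  obtain ⟨c, hc0, hc⟩ := subfieldSubgroup_apply (hle hmem)
  have hR : ∀ k : Fin n, RatVec F₀ P ((P : Matrix (Fin n) (Fin n) F) *ᵥ Pi.single k 1) := fun k =>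
    (ratVec_mulVec _).mpr fun l => by
      rw [Pi.single_apply]; split_ifs; exacts [F₀.one_mem, F₀.zero_mem]
  have key : ∀ k : Fin n, ∀ l, ((tv (Pi.single i 1) (Pi.single j t) hd : Matrix (Fin n) (Fin n) F) *ᵥ
      (Pi.single k 1 : VV)) l / c ∈ F₀ := by
    intro k l
    obtain ⟨y, hy, hgy⟩ := hc _ (hR k)
    obtain ⟨u, hu, rfl⟩ := hy.eq_mulVec
    simp only [Units.val_mul, Matrix.mulVec_mulVec, mul_assoc, ← Units.val_mul, inv_mul_cancel,
      mul_one] at hgy
    rw [Units.val_mul, ← Matrix.mulVec_mulVec, ← Matrix.mulVec_smul] at hgy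
    rw [Matrix.mulVec_injective_iff_isUnit.mpr P.isUnit hgy, Pi.smul_apply, smul_eq_mul,
      mul_div_cancel_left₀ _ hc0]
    exact hu l
  have h1 := key i i
  have h2 := key j i
  rw [tv_mulVec] at h1 h2
  simp [hij, hij.symm] at h1 h2
  exact ht (by simpa [div_eq_mul_inv, mul_assoc, hc0] using F₀.mul_mem h2 h1)

theorem not_le_normalizer (hn : 3 ≤ n) {N : Subgroup GLn} (hN : N ≤ SS)
    (hns : ¬ N ≤ ZZ) (hlt : N ≠ SS) : ¬ SS ≤ Subgroup.normalizer (N : Set GLn) := by
  intro hle
  let f : Matrix.SpecialLinearGroup (Fin n) F →* GLn := Matrix.SpecialLinearGroup.toGL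
  let q := QuotientGroup.mk' (Subgroup.center (Matrix.SpecialLinearGroup (Fin n) F))
  haveI : (N.comap f).Normal := ⟨fun x hx g => by
    show f (g * x * g⁻¹) ∈ N
    rw [map_mul, map_mul, map_inv]
    exact (Subgroup.mem_normalizer_iff.mp (hle ((range_toGL (n := n) (F := F)).le ⟨g, rfl⟩)) (f x)).mp hx⟩
  haveI : ((N.comap f).map q).Normal :=
    Subgroup.Normal.map (H := N.comap f) inferInstance q (QuotientGroup.mk'_surjective _)
  haveI := Cfsg.Agent.Lib.Classical.isSimpleGroup_PSL (ι := Fin n) (F := F) (by simpa using hn)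
  have hmap : (N.comap f).map f = N :=
    Subgroup.map_comap_eq_self (by rw [range_toGL]; exact hN)
  rcases Subgroup.Normal.eq_bot_or_eq_top (H := (N.comap f).map q) inferInstance with h | h
  · refine hns fun x hx => ?_
    obtain ⟨s, hs, rfl⟩ := hmap.ge hx
    have : s ∈ Subgroup.center (Matrix.SpecialLinearGroup (Fin n) F) := by
      have hq : q s ∈ (N.comap f).map q := ⟨s, hs, rfl⟩
      rw [h, Subgroup.mem_bot] at hq
      exact (QuotientGroup.eq_one_iff s).mp hq
    obtain ⟨r, hr, hrs⟩ := Matrix.SpecialLinearGroup.mem_center_iff.mp this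
    refine (Cfsg.Geo.mem_scalars_iff _).mpr ⟨Units.mk0 r ?_, ?_⟩
    · intro h0
      rw [h0, zero_pow (by simp; omega)] at hr
      exact zero_ne_one hr
    · show (s : Matrix (Fin n) (Fin n) F) = r • 1
      rw [← hrs, Matrix.scalar_apply, Matrix.smul_one_eq_diagonal]
  · refine hlt (le_antisymm hN ?_)
    have hsup : N.comap f ⊔ Subgroup.center (Matrix.SpecialLinearGroup (Fin n) F) = ⊤ := by
      rw [← QuotientGroup.ker_mk' (Subgroup.center _), ← Subgroup.comap_map_eq, h, Subgroup.comap_top]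
    rw [← range_toGL]
    rintro _ ⟨s, rfl⟩
    have h2 : (⊤ : Subgroup (Matrix.SpecialLinearGroup (Fin n) F)) ≤ N.comap f := by
      rw [← Cfsg.Agent.Lib.Classical.commutator_SL_eq_top (ι := Fin n) (F := F) (by simpa using hn)]
      refine Subgroup.commutator_le.mpr fun a _ b _ => ?_
      obtain ⟨x, hx, z, hz, rfl⟩ := Subgroup.mem_sup_of_normal_right.mp (hsup.ge (Subgroup.mem_top a))
      obtain ⟨y, hy, w, hw, rfl⟩ := Subgroup.mem_sup_of_normal_right.mp (hsup.ge (Subgroup.mem_top b))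
      have hz' := Subgroup.mem_center_iff.mp hz
      have hw' := Subgroup.mem_center_iff.mp hw
      have : ⁅x * z, y * w⁆ = ⁅x, y⁆ := comm_mul_central hz' hw'
      rw [this, commutatorElement_def]
      exact mul_mem (mul_mem (mul_mem hx hy) (inv_mem hx)) (inv_mem hy)
    exact h2 (Subgroup.mem_top s)

end Cfsg.Agent.Lib.KnownA.PrimeDim
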