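import Mathlib
import Cfsg.Prelude.Def_GeometricClasses

/-!
Clifford theory for a linear group of prime degree, and centralisers of irreducible groups.
-/

set_option autoImplicit false
set_option linter.style.haveILetI false
set_option linter.unusedSimpArgs false

namespace Cfsg.Agent.Lib.KnownA.PrimeDim

open Matrix Module
open scoped Matrix commutatorElement

variable {ι : Type} [Fintype ι] [DecidableEq ι] {F : Type*} [Field F]

local notation "GLn" => Matrix.GeneralLinearGroup ι F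
local notation "MM" => Matrix ι ι F
local notation "VV" => (ι → F)
local notation "ZZ" => Cfsg.Geo.scalars ι F
local notation "nn" => Fintype.card ι

/-- `W` is carried into itself by every element of `N`. -/
def Inv (N : Subgroup GLn) (W : Submodule F VV) : Prop :=
  ∀ g ∈ N, ∀ w ∈ W, (g : MM) *ᵥ w ∈ W

/-- `v` is an eigenvector of every element of `N`. -/
def Eig (N : Subgroup GLn) (v : VV) : Prop :=
  ∀ g ∈ N, ∃ c : F, (g : MM) *ᵥ v = c • v

theorem actsIrreducibly_iff (N : Subgroup GLn) :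
    Cfsg.Geo.ActsIrreducibly (Cfsg.Geo.matrixSet N) ↔ ∀ W, Inv N W → W = ⊥ ∨ W = ⊤ := by
  constructor
  · intro h W hW
    refine h W ?_
    rintro _ ⟨g, hg, rfl⟩ _ ⟨w, hw, rfl⟩
    simpa [Matrix.toLin'_apply] using hW g hg w hw
  · intro h W hW
    refine h W fun g hg w hw => hW _ ⟨g, hg, rfl⟩ ⟨w, hw, ?_⟩
    simp [Matrix.toLin'_apply]

theorem inv_mul_cancel_vec (g : GLn) (v : VV) : ((g⁻¹ : GLn) : MM) *ᵥ ((g : MM) *ᵥ v) = v := by
  rw [Matrix.mulVec_mulVec, ← Units.val_mul, inv_mul_cancel, Units.val_one, Matrix.one_mulVec]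

theorem mul_inv_cancel_vec (g : GLn) (v : VV) : (g : MM) *ᵥ (((g⁻¹ : GLn) : MM) *ᵥ v) = v := by
  rw [Matrix.mulVec_mulVec, ← Units.val_mul, mul_inv_cancel, Units.val_one, Matrix.one_mulVec]

theorem mulVec_injective (g : GLn) : Function.Injective ((g : MM).mulVec) :=
  Matrix.mulVec_injective_iff_isUnit.mpr g.isUnit

theorem eq_of_mulVec {A B : MM} (h : ∀ v : VV, A *ᵥ v = B *ᵥ v) : A = B :=
  Matrix.ext_of_mulVec_single fun _ => h _

theorem eq_smul_one {A : MM} {c : F} (h : ∀ v : VV, A *ᵥ v = c • v) : A = c • (1 : MM) :=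
  eq_of_mulVec fun v => by rw [h, Matrix.smul_mulVec, Matrix.one_mulVec]

theorem mem_scalars_of_matrix {g : GLn} (hn : 0 < nn) {c : F} (h : (g : MM) = c • (1 : MM)) : g ∈ ZZ := by
  refine (Cfsg.Geo.mem_scalars_iff g).mpr ⟨Units.mk0 c ?_, h⟩
  rintro rfl
  haveI : Nonempty ι := Fintype.card_pos_iff.mp hn
  have := g.isUnit
  rw [h, zero_smul] at this
  exact not_isUnit_zero this

theorem scalars_comm {z : GLn} (hz : z ∈ ZZ) (g : GLn) : g * z = z * g := by
  obtain ⟨c, hc⟩ := (Cfsg.Geo.mem_scalars_iff z).mp hz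
  exact Units.ext (by rw [Units.val_mul, Units.val_mul, hc]; simp)

omit [DecidableEq ι] in
/-- A family of simple invariant subspaces of equal dimension spanning the space. -/
theorem dvd_of_family {ι' : Type*} [Finite F] (N : Submodule F VV → Prop) (W : ι' → Submodule F VV) (d : ℕ)
    (hbot : N ⊥) (hsup : ∀ U U', N U → N U' → N (U ⊔ U')) (hinf : ∀ U U', N U → N U' → N (U ⊓ U'))
    (hW : ∀ i, N (W i)) (hdim : ∀ i, finrank F (W i) = d)
    (hsimple : ∀ i U, N U → U ≤ W i → U = ⊥ ∨ U = W i)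
    (htop : ⨆ i, W i = ⊤) : d ∣ nn := by
  obtain ⟨U, ⟨hU, hdU⟩, hmax⟩ := Set.Finite.exists_maximal
    (Set.toFinite {U : Submodule F VV | N U ∧ d ∣ finrank F U}) ⟨⊥, hbot, by simp⟩
  suffices U = ⊤ by
    rw [this, finrank_top, Module.finrank_fintype_fun_eq_card] at hdU
    exact hdU
  rw [eq_top_iff, ← htop, iSup_le_iff]
  intro i
  rcases hsimple i _ (hinf U (W i) hU (hW i)) inf_le_right with h | h
  · have hfin : finrank F ↥(U ⊔ W i) = finrank F U + d := by
      have := Submodule.finrank_sup_add_finrank_inf_eq U (W i)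
      rw [h, finrank_bot, add_zero, hdim] at this
      exact this
    exact le_sup_right.trans (hmax ⟨hsup _ _ hU (hW i), hfin ▸ dvd_add hdU dvd_rfl⟩ le_sup_left)
  · exact h ▸ inf_le_left

/-- **Clifford's theorem in prime degree.** -/
theorem clifford [Finite F] (hp : Nat.Prime nn) {G N : Subgroup GLn}
    (hG : Cfsg.Geo.ActsIrreducibly (Cfsg.Geo.matrixSet G))
    (hNG : ∀ g ∈ G, ∀ x ∈ N, g * x * g⁻¹ ∈ N) (hns : ¬ N ≤ ZZ) :
    Cfsg.Geo.ActsIrreducibly (Cfsg.Geo.matrixSet N) ∨
      ∃ b : Basis ι F VV, (∀ i, Eig N (b i)) ∧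
        ∀ g ∈ G, ∃ σ : Equiv.Perm ι, ∃ a : ι → F, ∀ i, (g : MM) *ᵥ b i = a i • b (σ i) := by
  have hn0 : 0 < nn := hp.pos
  haveI : Nonempty ι := Fintype.card_pos_iff.mp hn0
  rw [actsIrreducibly_iff] at hG
  obtain ⟨W, ⟨hW, hW0⟩, hmin⟩ := Set.Finite.exists_minimal
    (Set.toFinite {W : Submodule F VV | Inv N W ∧ W ≠ ⊥}) ⟨⊤, fun _ _ _ _ => trivial, top_ne_bot⟩
  let T : G → Submodule F VV := fun g => W.map (Matrix.toLin' ((g : GLn) : MM))
  have hTinv : ∀ g, Inv N (T g) := by
    rintro ⟨g, hg⟩ x hx _ ⟨w, hw, rfl⟩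
    refine ⟨((g⁻¹ * x * g : GLn) : MM) *ᵥ w, hW _ ?_ w hw, ?_⟩
    · have := hNG g⁻¹ (G.inv_mem hg) x hx
      rwa [inv_inv] at this
    · rw [Matrix.toLin'_apply, Matrix.toLin'_apply, Matrix.mulVec_mulVec, Matrix.mulVec_mulVec,
        ← Units.val_mul, ← Units.val_mul]
      congr 2
      group
  have hTdim : ∀ g, finrank F (T g) = finrank F W := fun g =>
    (Submodule.equivMapOfInjective _ (by
      intro a b hab
      simp only [Matrix.toLin'_apply] at hab
      exact mulVec_injective (g : GLn) hab) W).finrank_eq.symm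
  have hTsimple : ∀ g U, Inv N U → U ≤ T g → U = ⊥ ∨ U = T g := by
    rintro ⟨g, hg⟩ U hU hle
    by_cases h0 : U = ⊥
    · exact Or.inl h0
    refine Or.inr (le_antisymm hle ?_)
    have hle' : U.comap (Matrix.toLin' (g : MM)) ≤ W := by
      intro v hv
      obtain ⟨w, hw, hwv⟩ := hle hv
      simp only [Matrix.toLin'_apply] at hwv
      exact mulVec_injective g hwv ▸ hw
    have hmem : Inv N (U.comap (Matrix.toLin' (g : MM))) ∧ U.comap (Matrix.toLin' (g : MM)) ≠ ⊥ := by
      refine ⟨fun x hx v hv => ?_, fun h => h0 ?_⟩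
      · simp only [Submodule.mem_comap, Matrix.toLin'_apply] at hv ⊢
        have := hU _ (hNG g hg x hx) _ hv
        rw [Matrix.mulVec_mulVec, ← Units.val_mul, inv_mul_cancel_right, Units.val_mul] at this
        rwa [Matrix.mulVec_mulVec]
      · rw [Submodule.eq_bot_iff] at h ⊢
        intro v hv
        have := h (((g⁻¹ : GLn) : MM) *ᵥ v) (by
          simp only [Submodule.mem_comap, Matrix.toLin'_apply, mul_inv_cancel_vec]; exact hv)
        rw [← mul_inv_cancel_vec g v, this, Matrix.mulVec_zero]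
    rintro _ ⟨w, hw, rfl⟩
    exact hmin hmem hle' hw
  have htop : ⨆ g, T g = ⊤ := by
    refine (hG _ ?_).resolve_left ?_
    · intro g hg v hv
      induction hv using Submodule.iSup_induction' with
      | mem h v hv =>
        obtain ⟨w, hw, rfl⟩ := hv
        refine Submodule.mem_iSup_of_mem (⟨g, hg⟩ * h) ⟨w, hw, ?_⟩
        simp [Matrix.toLin'_apply, Matrix.mulVec_mulVec]
      | zero => simp
      | add a b _ _ iha ihb => rw [Matrix.mulVec_add]; exact add_mem iha ihb
    · intro h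
      refine hW0 (le_bot_iff.mp (le_trans ?_ (h ▸ le_iSup T 1 : T 1 ≤ ⊥)))
      intro w hw
      exact ⟨w, hw, by simp⟩
  have hdvd : finrank F W ∣ nn := dvd_of_family (Inv N) T _
    (fun _ _ w hw => by rw [(Submodule.mem_bot F).mp hw, Matrix.mulVec_zero]; exact zero_mem _)
    (fun U U' hU hU' g hg w hw => by
      obtain ⟨a, ha, b, hb, rfl⟩ := Submodule.mem_sup.mp hw
      rw [Matrix.mulVec_add]
      exact Submodule.add_mem_sup (hU g hg a ha) (hU' g hg b hb))
    (fun U U' hU hU' g hg w hw => ⟨hU g hg w hw.1, hU' g hg w hw.2⟩)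
    hTinv hTdim hTsimple htop
  rcases (Nat.dvd_prime hp).mp hdvd with h1 | hn
  swap
  · left
    rw [actsIrreducibly_iff]
    intro U hU
    have hWtop : W = ⊤ := Submodule.eq_top_of_finrank_eq (by rw [hn, Module.finrank_fintype_fun_eq_card])
    by_cases h0 : U = ⊥
    · exact Or.inl h0
    · exact Or.inr (top_le_iff.mp (hWtop ▸ hmin ⟨hU, h0⟩ (hWtop ▸ le_top)))
  right
  have heig : ∀ g, ∀ v ∈ T g, Eig N v := by
    intro g v hv x hx
    by_cases hv0 : v = 0
    · exact ⟨0, by simp [hv0]⟩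
    have hsp : T g = F ∙ v := (Submodule.eq_of_le_of_finrank_eq ((Submodule.span_singleton_le_iff_mem v _).mpr hv)
      (by rw [finrank_span_singleton hv0, hTdim, h1])).symm
    obtain ⟨c, hc⟩ := Submodule.mem_span_singleton.mp (hsp.le (hTinv g x hx v hv))
    exact ⟨c, hc.symm⟩
  have hspan : ⊤ ≤ Submodule.span F {v : VV | Eig N v} := by
    rw [← htop, iSup_le_iff]
    exact fun g v hv => Submodule.subset_span (heig g v hv)
  let b0 := Basis.ofSpan hspan
  haveI : Fintype ↥((linearIndepOn_empty F id).extend (Set.empty_subset {v : VV | Eig N v})) :=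
    FiniteDimensional.fintypeBasisIndex b0
  let e := b0.indexEquiv (Pi.basisFun F ι)
  let b := b0.reindex e
  have hb : ∀ i, Eig N (b i) := fun i => by
    have : b i ∈ Set.range b0 := ⟨e.symm i, by simp [b]⟩
    exact Basis.ofSpan_subset hspan this
  choose L hL using hb
  -- joint eigenvectors live in one class
  have hclass : ∀ v : VV, ∀ μ : ∀ x ∈ N, F, (∀ x (hx : x ∈ N), (x : MM) *ᵥ v = μ x hx • v) →
      ∀ i, b.repr v i ≠ 0 → ∀ x (hx : x ∈ N), L i x hx = μ x hx := by
    intro v μ hμ i hi x hx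
    have key : (x : MM) *ᵥ v = ∑ k, (b.repr v k * L k x hx) • b k := by
      conv_lhs => rw [← b.sum_repr v]
      rw [Matrix.mulVec_sum]
      refine Finset.sum_congr rfl fun k _ => ?_
      rw [Matrix.mulVec_smul, hL k x hx, smul_smul]
    have := congrArg (fun u => b.repr u i) key
    simp only [hμ x hx, map_smul, Finsupp.smul_apply, map_sum, Finsupp.coe_finsetSum, Finset.sum_apply,
      Basis.repr_self, Finsupp.single_apply, smul_eq_mul, mul_ite, mul_one, mul_zero, Finset.sum_ite_eq',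
      Finset.mem_univ, if_true] at this
    exact mul_left_cancel₀ hi (by rw [← this, mul_comm])
  classical
  let cls : ι → Finset ι := fun i => Finset.univ.filter fun k => L k = L i
  -- an element of G carries classes into classes
  have hmove : ∀ g ∈ G, ∀ i k, b.repr ((g : MM) *ᵥ b i) k ≠ 0 → ∀ i', L i' = L i →
      ∀ k', b.repr ((g : MM) *ᵥ b i') k' ≠ 0 → L k' = L k := by
    intro g hg i k hk i' hi' k' hk'
    have hμ : ∀ j, L j = L i → ∀ x (hx : x ∈ N), (x : MM) *ᵥ ((g : MM) *ᵥ b j) =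
        L i (g⁻¹ * x * g) (by simpa using hNG g⁻¹ (G.inv_mem hg) x hx) • ((g : MM) *ᵥ b j) := by
      intro j hj x hx
      have hx' : g⁻¹ * x * g ∈ N := by simpa using hNG g⁻¹ (G.inv_mem hg) x hx
      have := hL j _ hx'
      rw [hj] at this
      rw [← Matrix.mulVec_smul, ← this, Matrix.mulVec_mulVec, Matrix.mulVec_mulVec, ← Units.val_mul, ← Units.val_mul]
      congr 2
      group
    funext x hx
    rw [hclass _ _ (hμ i' hi') k' hk' x hx, hclass _ _ (hμ i rfl) k hk x hx]
  have hne : ∀ g : GLn, ∀ i, ∃ k, b.repr ((g : MM) *ᵥ b i) k ≠ 0 := by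
    intro g i
    by_contra hc
    push Not at hc
    have h0 : (g : MM) *ᵥ b i = 0 := b.repr.injective (Finsupp.ext fun k => by simpa using hc k)
    exact b.ne_zero i (mulVec_injective g (h0.trans (Matrix.mulVec_zero _).symm))
  have hsupp : ∀ (v : VV) (s : Set ι), (∀ k, b.repr v k ≠ 0 → k ∈ s) → v ∈ Submodule.span F (b '' s) := by
    intro v s h
    rw [Basis.mem_span_image]
    intro k hk
    exact h k (Finsupp.mem_support_iff.mp hk)
  -- every class is reached from every class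
  have hreach : ∀ i k, ∃ g ∈ G, ∃ k', b.repr ((g : MM) *ᵥ b i) k' ≠ 0 ∧ L k' = L k := by
    intro i k
    by_contra hc
    push Not at hc
    let U : Submodule F VV := Submodule.span F ((fun g : G => ((g : GLn) : MM) *ᵥ b i) '' Set.univ)
    have hUinv : Inv G U := by
      intro g hg w hw
      induction hw using Submodule.span_induction with
      | mem v hv =>
        obtain ⟨h, -, rfl⟩ := hv
        exact Submodule.subset_span ⟨⟨g, hg⟩ * h, trivial, by simp [Matrix.mulVec_mulVec]⟩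
      | zero => simp
      | add a b _ _ iha ihb => rw [Matrix.mulVec_add]; exact add_mem iha ihb
      | smul c a _ iha => rw [Matrix.mulVec_smul]; exact Submodule.smul_mem _ _ iha
    have hle : U ≤ Submodule.span F (b '' {k' | L k' ≠ L k}) := by
      rw [Submodule.span_le]
      rintro _ ⟨h, -, rfl⟩
      exact hsupp _ _ fun k' hk' => hc _ h.2 k' hk'
    rcases hG U hUinv with h | h
    · refine b.ne_zero i ?_
      have : b i ∈ U := Submodule.subset_span ⟨1, trivial, by simp⟩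
      rwa [h, Submodule.mem_bot] at this
    · have : b k ∈ Submodule.span F (b '' {k' | L k' ≠ L k}) := hle (h ▸ trivial)
      rw [Basis.mem_span_image, Basis.repr_self] at this
      have hk : k ∈ {k' | L k' ≠ L k} := this (by simp)
      exact hk rfl
  have hcard : ∀ i k, (cls i).card ≤ (cls k).card := by
    intro i k
    obtain ⟨g, hg, k', hk', hkk⟩ := hreach i k
    have hli : LinearIndependent F fun j : cls i => (g : MM) *ᵥ b j := by
      have h := (b.linearIndependent.comp _ (Subtype.val_injective (p := fun j => j ∈ cls i))).map'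
        (Matrix.toLin' (g : MM)) (LinearMap.ker_eq_bot.mpr fun a a' h => mulVec_injective g (by
          simpa [Matrix.toLin'_apply] using h))
      simpa [Function.comp_def, Matrix.toLin'_apply] using h
    have hle : Submodule.span F (Set.range fun j : cls i => (g : MM) *ᵥ b j) ≤
        Submodule.span F (((cls k).image b : Finset VV) : Set VV) := by
      rw [Submodule.span_le, Finset.coe_image]
      rintro _ ⟨⟨j, hj⟩, rfl⟩
      refine hsupp _ _ fun l hl => ?_
      simp only [cls, Finset.coe_filter, Finset.mem_univ, true_and, Set.mem_ofPred_eq] at hj ⊢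
      rw [hmove g hg i k' hk' j (by simpa [cls] using hj) l hl, hkk]
    have := Submodule.finrank_mono hle
    rw [finrank_span_eq_card hli, Fintype.card_coe] at this
    exact this.trans ((finrank_span_finset_le_card _).trans Finset.card_image_le)
  let i0 : ι := Classical.arbitrary ι
  have hsum : nn = (Finset.univ.image L).card * (cls i0).card := by
    conv_lhs => rw [← Finset.card_univ,
      Finset.card_eq_sum_card_image L Finset.univ]
    rw [Finset.sum_const_nat]
    intro x hx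
    obtain ⟨i, -, rfl⟩ := Finset.mem_image.mp hx
    exact le_antisymm (hcard i i0) (hcard i0 i)
  have hinj : Function.Injective L := by
    rcases (Nat.dvd_prime hp).mp (Dvd.intro_left _ hsum.symm) with h | h
    · intro i k hik
      have h' : (cls i).card ≤ 1 := h ▸ hcard i i0
      exact Finset.card_le_one.mp h' i (by simp [cls]) k (by simp [cls, hik])
    · exfalso
      have hall : ∀ k, L k = L i0 := by
        intro k
        have : cls i0 = Finset.univ := Finset.eq_univ_of_card _ (by rw [h])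
        have hk := this.symm ▸ Finset.mem_univ k
        simpa [cls] using hk
      refine hns fun x hx => mem_scalars_of_matrix hn0 (c := L i0 x hx) (eq_smul_one fun v => ?_)
      conv_lhs => rw [← b.sum_repr v]
      conv_rhs => rw [← b.sum_repr v]
      rw [Matrix.mulVec_sum, Finset.smul_sum]
      refine Finset.sum_congr rfl fun k _ => ?_
      rw [Matrix.mulVec_smul, hL k x hx, hall k, smul_comm]
  refine ⟨b, fun i x hx => ⟨L i x hx, hL i x hx⟩, fun g hg => ?_⟩
  choose k hk using hne g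
  have hone : ∀ i, (g : MM) *ᵥ b i = b.repr ((g : MM) *ᵥ b i) (k i) • b (k i) := by
    intro i
    conv_lhs => rw [← b.sum_repr ((g : MM) *ᵥ b i)]
    refine Finset.sum_eq_single (k i) (fun l _ hl => ?_) fun h => absurd (Finset.mem_univ _) h
    by_contra h
    exact hl (hinj (hmove g hg i (k i) (hk i) i rfl l fun h' => h (by rw [h', zero_smul])))
  have hkinj : Function.Injective k := by
    intro i j hij
    by_contra hne'
    have h1 := hone i
    have h2 := hone j
    rw [← hij] at h2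
    have h3 : (g : MM) *ᵥ (b.repr ((g : MM) *ᵥ b j) (k i) • b i) =
        (g : MM) *ᵥ (b.repr ((g : MM) *ᵥ b i) (k i) • b j) := by
      rw [Matrix.mulVec_smul, Matrix.mulVec_smul]
      conv_lhs => rw [h1]
      conv_rhs => rw [h2]
      rw [smul_smul, smul_smul, mul_comm]
    have := congrArg (fun v => b.repr v j) (mulVec_injective g h3)
    simp [Ne.symm hne'] at this
    exact hk i this.symm
  exact ⟨Equiv.ofBijective k (Finite.injective_iff_bijective.mp hkinj), _, hone⟩

/-- The matrices commuting with `N`. -/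
def comm (N : Subgroup GLn) : Subalgebra F MM := Subalgebra.centralizer F (Cfsg.Geo.matrixSet N)

theorem mem_comm {N : Subgroup GLn} {M : MM} :
    M ∈ comm N ↔ ∀ g ∈ N, (g : MM) * M = M * (g : MM) := by
  rw [comm, Subalgebra.mem_centralizer_iff]
  exact ⟨fun h g hg => h _ ⟨g, hg, rfl⟩, by rintro h _ ⟨g, hg, rfl⟩; exact h g hg⟩

/-- Schur: nonzero commuting matrices are invertible. -/
theorem comm_isUnit {N : Subgroup GLn} (hN : Cfsg.Geo.ActsIrreducibly (Cfsg.Geo.matrixSet N))
    {M : MM} (hM : M ∈ comm N) (h0 : M ≠ 0) : IsUnit M := by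
  rw [← Matrix.mulVec_injective_iff_isUnit]
  have hker : LinearMap.ker (Matrix.toLin' M) = ⊥ := by
    refine ((actsIrreducibly_iff N).mp hN _ fun g hg w hw => ?_).resolve_right fun h => h0 ?_
    · rw [LinearMap.mem_ker, Matrix.toLin'_apply] at hw ⊢
      rw [Matrix.mulVec_mulVec, ← mem_comm.mp hM g hg, ← Matrix.mulVec_mulVec, hw, Matrix.mulVec_zero]
    · exact eq_of_mulVec fun v => by
        have : v ∈ LinearMap.ker (Matrix.toLin' M) := h ▸ trivial
        rwa [LinearMap.mem_ker, Matrix.toLin'_apply, ← Matrix.zero_mulVec (m := ι) v] at this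
  intro a b hab
  exact LinearMap.ker_eq_bot.mp hker (by simpa [Matrix.toLin'_apply] using hab)

theorem comm_field [Finite F] (hp : Nat.Prime nn) {N : Subgroup GLn}
    (hN : Cfsg.Geo.ActsIrreducibly (Cfsg.Geo.matrixSet N)) :
    (∀ M : MM, (∀ s ∈ Cfsg.Geo.matrixSet N, M * s = s * M) → ∃ c : F, M = c • (1 : MM)) ∨
      Cfsg.Geo.IsFieldSubalgebra nn (comm N) := by
  haveI : Nonempty ι := Fintype.card_pos_iff.mp hp.pos
  set K := comm N with hK
  haveI : Finite K := Finite.of_injective (fun x : K => (x : MM)) Subtype.val_injective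
  haveI : Nontrivial K := ⟨⟨0, 1, fun h => zero_ne_one (α := MM) (congrArg Subtype.val h)⟩⟩
  have hunit : ∀ x : K, x ≠ 0 → IsUnit (x : MM) := fun x hx =>
    comm_isUnit hN x.2 fun h => hx (Subtype.ext h)
  haveI : NoZeroDivisors K := ⟨fun {a b} hab => by
    by_cases ha : a = 0
    · exact Or.inl ha
    · exact Or.inr (Subtype.ext ((hunit a ha).mul_right_eq_zero.mp (congrArg Subtype.val hab)))⟩
  haveI : IsDomain K := NoZeroDivisors.to_isDomain K
  have hfield : IsField K := Finite.isDomain_to_isField K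
  have hinv : ∀ x ∈ K, x ≠ 0 → ∃ y ∈ K, x * y = 1 := by
    intro x hx h0
    obtain ⟨y, hy⟩ := hfield.mul_inv_cancel (a := (⟨x, hx⟩ : K)) fun h => h0 (congrArg Subtype.val h)
    exact ⟨y, y.2, congrArg Subtype.val hy⟩
  have hcomm : ∀ x ∈ K, ∀ y ∈ K, x * y = y * x := fun x hx y hy =>
    congrArg Subtype.val (hfield.mul_comm (⟨x, hx⟩ : K) ⟨y, hy⟩)
  let L : VV → (↥(Subalgebra.toSubmodule K) →ₗ[F] VV) := fun v =>
    { toFun := fun k => (k : MM) *ᵥ v
      map_add' := fun a b => Matrix.add_mulVec _ _ v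
      map_smul' := fun c a => Matrix.smul_mulVec c _ v }
  let W : {v : VV // v ≠ 0} → Submodule F VV := fun v => LinearMap.range (L v)
  have hdvd : finrank F (Subalgebra.toSubmodule K) ∣ nn := by
    refine dvd_of_family (fun U => ∀ k ∈ K, ∀ u ∈ U, k *ᵥ u ∈ U) W _
      (fun k _ u hu => by rw [(Submodule.mem_bot F).mp hu, Matrix.mulVec_zero]; exact zero_mem _) ?_ ?_ ?_ ?_ ?_ ?_
    · intro U U' hU hU' k hk w hw
      obtain ⟨a, ha, b, hb, rfl⟩ := Submodule.mem_sup.mp hw
      rw [Matrix.mulVec_add]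
      exact Submodule.add_mem_sup (hU k hk a ha) (hU' k hk b hb)
    · exact fun U U' hU hU' k hk w hw => ⟨hU k hk w hw.1, hU' k hk w hw.2⟩
    · rintro v k hk _ ⟨l, rfl⟩
      exact ⟨⟨k * (l : MM), K.mul_mem hk l.2⟩, (Matrix.mulVec_mulVec (v.1) k (l : MM)).symm⟩
    · rintro ⟨v, hv⟩
      refine LinearMap.finrank_range_of_inj fun a b hab => ?_
      by_contra hne
      have hd : ((a : MM) - (b : MM)) *ᵥ v = 0 := by rw [Matrix.sub_mulVec]; exact sub_eq_zero.mpr hab
      obtain ⟨y, -, hy⟩ := hinv _ (K.sub_mem a.2 b.2) fun h => hne (Subtype.ext (sub_eq_zero.mp h))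
      have hu : IsUnit ((a : MM) - (b : MM)) := hunit ⟨_, K.sub_mem a.2 b.2⟩ fun h =>
        hne (Subtype.ext (sub_eq_zero.mp (congrArg Subtype.val h)))
      exact hv (Matrix.mulVec_injective_iff_isUnit.mpr hu (hd.trans (Matrix.mulVec_zero _).symm))
    · rintro ⟨v, hv⟩ U hU hle
      by_cases h0 : U = ⊥
      · exact Or.inl h0
      refine Or.inr (le_antisymm hle ?_)
      obtain ⟨u, hu, hu0⟩ := (Submodule.ne_bot_iff U).mp h0
      obtain ⟨k, rfl⟩ := hle hu
      obtain ⟨y, hy, hky⟩ := hinv (k : MM) k.2 fun h => hu0 (by show (k : MM) *ᵥ v = 0; rw [h, Matrix.zero_mulVec])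
      rintro _ ⟨l, rfl⟩
      show (l : MM) *ᵥ v ∈ U
      have : (l : MM) *ᵥ v = ((l : MM) * y) *ᵥ ((k : MM) *ᵥ v) := by
        rw [Matrix.mulVec_mulVec, mul_assoc, hcomm y hy _ k.2, hky, mul_one]
      rw [this]
      exact hU _ (K.mul_mem l.2 hy) _ hu
    · refine eq_top_iff.mpr fun v _ => ?_
      by_cases hv : v = 0
      · rw [hv]; exact zero_mem _
      · exact Submodule.mem_iSup_of_mem ⟨v, hv⟩ ⟨⟨1, K.one_mem⟩, Matrix.one_mulVec v⟩
  rcases (Nat.dvd_prime hp).mp hdvd with h | h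
  · left
    intro M hM
    have hMK : M ∈ K := mem_comm.mpr fun g hg => (hM _ ⟨g, hg, rfl⟩).symm
    obtain ⟨c, hc⟩ := (finrank_eq_one_iff_of_nonzero' (⟨1, K.one_mem⟩ : Subalgebra.toSubmodule K)
      (fun h => zero_ne_one (α := MM) (congrArg Subtype.val h).symm)).mp h ⟨M, hMK⟩
    exact ⟨c, (congrArg Subtype.val hc).symm⟩
  · exact Or.inr ⟨hcomm, hinv, h⟩

theorem comm_normalized {G N : Subgroup GLn} (hNG : ∀ g ∈ G, ∀ x ∈ N, g * x * g⁻¹ ∈ N) {g : GLn}
    (hg : g ∈ G) : g ∈ Cfsg.Geo.subalgebraNormalizer (comm N) := by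
  intro k
  rw [mem_comm, mem_comm]
  constructor
  · intro h x hx
    have hx' : g⁻¹ * x * g ∈ N := by simpa using hNG g⁻¹ (G.inv_mem hg) x hx
    have := congrArg (fun M => (g : MM) * M * ((g⁻¹ : GLn) : MM)) (h _ hx')
    simpa only [Units.val_mul, mul_assoc, Units.inv_mul_cancel_left, Units.mul_inv_cancel_left, Units.mul_inv,
      Units.inv_mul, mul_one, one_mul] using this
  · intro h x hx
    have := congrArg (fun M => ((g⁻¹ : GLn) : MM) * M * (g : MM)) (h _ (hNG g hg x hx))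
    simpa only [Units.val_mul, mul_assoc, Units.inv_mul_cancel_left, Units.mul_inv_cancel_left, Units.mul_inv,
      Units.inv_mul, mul_one, one_mul] using this

/-- A field of matrices has cyclic multiplicative group. -/
theorem exists_gen [Finite F] (hn : 0 < nn) {r : ℕ} {K : Subalgebra F MM}
    (hK : Cfsg.Geo.IsFieldSubalgebra r K) :
    ∃ u : GLn, (u : MM) ∈ K ∧ ∀ k ∈ K, k ≠ 0 → ∃ i : ℕ, k = (u : MM) ^ i := by
  haveI : Nonempty ι := Fintype.card_pos_iff.mp hn
  letI : CommRing K :=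
    { (inferInstance : Ring K) with mul_comm := fun a b => Subtype.ext (hK.comm _ a.2 _ b.2) }
  haveI : Finite K := Finite.of_injective (fun x : K => (x : MM)) Subtype.val_injective
  haveI : Nontrivial K := ⟨⟨0, 1, fun h => zero_ne_one (α := MM) (congrArg Subtype.val h)⟩⟩
  haveI : NoZeroDivisors K := ⟨fun {a b} hab => by
    by_cases ha : a = 0
    · exact Or.inl ha
    · right
      obtain ⟨y, hy, hay⟩ := hK.inv _ a.2 fun h => ha (Subtype.ext h)
      refine Subtype.ext ?_
      have hab' : (a : MM) * b = 0 := congrArg Subtype.val hab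
      calc (b : MM) = (y * (a : MM)) * b := by rw [hK.comm y hy _ a.2, hay, one_mul]
        _ = 0 := by rw [mul_assoc, hab', mul_zero]⟩
  haveI : IsDomain K := NoZeroDivisors.to_isDomain K
  haveI : IsCyclic Kˣ := inferInstance
  obtain ⟨u, hu⟩ := IsCyclic.exists_monoid_generator (α := Kˣ)
  refine ⟨Units.map (K.val : K →* MM) u, u.val.2, fun k hk hk0 => ?_⟩
  have hu' : IsUnit (⟨k, hk⟩ : K) := by
    obtain ⟨y, hy, hky⟩ := hK.inv k hk hk0
    exact IsUnit.of_mul_eq_one (⟨y, hy⟩ : K) (Subtype.ext hky)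
  obtain ⟨i, hi⟩ := (Submonoid.mem_powers_iff _ _).mp (hu hu'.unit)
  exact ⟨i, (congrArg (fun x : Kˣ => ((x : K) : MM)) hi).symm.trans (by simp)⟩

/-- Commutators of a group normalising a field of matrices centralise it. -/
theorem commutator_centralizes [Finite F] (hn : 0 < nn) {r : ℕ} {K : Subalgebra F MM}
    (hK : Cfsg.Geo.IsFieldSubalgebra r K) {g h : GLn} (hg : g ∈ Cfsg.Geo.subalgebraNormalizer K)
    (hh : h ∈ Cfsg.Geo.subalgebraNormalizer K) {k : MM} (hk : k ∈ K) :
    (⁅g, h⁆ : GLn) * k = k * ((⁅g, h⁆ : GLn) : MM) := by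
  haveI : Nonempty ι := Fintype.card_pos_iff.mp hn
  obtain ⟨u, hu, hgen⟩ := exists_gen hn hK
  have hpow : ∀ x ∈ Cfsg.Geo.subalgebraNormalizer K, ∃ i : ℕ, x * u * x⁻¹ = u ^ i := by
    intro x hx
    obtain ⟨i, hi⟩ := hgen _ ((hx _).mp hu) (by
      rw [← Units.val_mul, ← Units.val_mul]; exact Units.ne_zero _)
    exact ⟨i, Units.ext (by rw [Units.val_pow_eq_pow_val, ← hi, Units.val_mul, Units.val_mul])⟩
  obtain ⟨a, ha⟩ := hpow h⁻¹ (inv_mem hh)
  obtain ⟨b, hb⟩ := hpow g⁻¹ (inv_mem hg)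
  have e1 : (h⁻¹ * g⁻¹) * u * (h⁻¹ * g⁻¹)⁻¹ = u ^ (a * b) := by
    rw [show (h⁻¹ * g⁻¹) * u * (h⁻¹ * g⁻¹)⁻¹ = h⁻¹ * (g⁻¹ * u * g⁻¹⁻¹) * h⁻¹⁻¹ by group, hb, ← conj_pow, ha,
      ← pow_mul]
  have e2 : (g⁻¹ * h⁻¹) * u * (g⁻¹ * h⁻¹)⁻¹ = u ^ (a * b) := by
    rw [show (g⁻¹ * h⁻¹) * u * (g⁻¹ * h⁻¹)⁻¹ = g⁻¹ * (h⁻¹ * u * h⁻¹⁻¹) * g⁻¹⁻¹ by group, ha, ← conj_pow, hb,
      ← pow_mul, mul_comm b a]
  have h3 : ⁅g, h⁆ * u = u * ⁅g, h⁆ := by
    calc ⁅g, h⁆ * u = (h⁻¹ * g⁻¹)⁻¹ * ((g⁻¹ * h⁻¹) * u * (g⁻¹ * h⁻¹)⁻¹) * (g⁻¹ * h⁻¹) := by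
          rw [commutatorElement_def]; group
      _ = (h⁻¹ * g⁻¹)⁻¹ * ((h⁻¹ * g⁻¹) * u * (h⁻¹ * g⁻¹)⁻¹) * (g⁻¹ * h⁻¹) := by rw [e1, e2]
      _ = u * ⁅g, h⁆ := by rw [commutatorElement_def]; group
  by_cases hk0 : k = 0
  · simp [hk0]
  obtain ⟨i, rfl⟩ := hgen k hk hk0
  have h4 : Commute ((⁅g, h⁆ : GLn) : MM) (u : MM) := by
    show _ = _
    rw [← Units.val_mul, h3, Units.val_mul]
  exact (h4.pow_right i).eq

end Cfsg.Agent.Lib.KnownA.PrimeDim
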