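import Cfsg.Agent.Lib.KnownA.PrimeDim.Clifford

/-!
A minimal normal non-scalar subgroup of an irreducible group of prime degree: class two modulo
scalars, or a residual core.
-/

set_option autoImplicit false
set_option linter.style.haveILetI false
set_option linter.unusedSimpArgs false

namespace Cfsg.Agent.Lib.KnownA.PrimeDim

open Matrix Module
open scoped Matrix commutatorElement

variable {ι : Type} [Fintype ι] [DecidableEq ι] {F : Type*} [Field F]

local notation "GLn" => Matrix.GeneralLinearGroup ι F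
local notation "MM" => Matrix ι ι F
local notation "VV" => (ι → F)
local notation "ZZ" => Cfsg.Geo.scalars ι F
local notation "nn" => Fintype.card ι

/-- Multiplying both arguments by scalars does not change a commutator. -/
theorem commutator_mul_scalar {x y z w : GLn} (hz : z ∈ ZZ) (hw : w ∈ ZZ) :
    ⁅z * x, w * y⁆ = ⁅x, y⁆ := by
  rw [← scalars_comm hz x, ← scalars_comm hw y]
  calc ⁅x * z, y * w⁆ = x * (z * (y * w * z⁻¹)) * x⁻¹ * w⁻¹ * y⁻¹ := by rw [commutatorElement_def]; group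
    _ = x * ((y * w * z⁻¹) * z) * x⁻¹ * w⁻¹ * y⁻¹ := by rw [scalars_comm hz (y * w * z⁻¹)]
    _ = x * y * (w * x⁻¹) * w⁻¹ * y⁻¹ := by group
    _ = x * y * (x⁻¹ * w) * w⁻¹ * y⁻¹ := by rw [scalars_comm hw x⁻¹]
    _ = ⁅x, y⁆ := by rw [commutatorElement_def]; group

/-- `G` normalises `N`. -/
def Norms (G N : Subgroup GLn) : Prop := ∀ g ∈ G, ∀ x ∈ N, g * x * g⁻¹ ∈ N

theorem Norms.le_normalizer {G N : Subgroup GLn} (h : Norms G N) :
    G ≤ Subgroup.normalizer (N : Set GLn) := by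
  intro g hg
  rw [Subgroup.mem_normalizer_iff]
  refine fun x => ⟨h g hg x, fun hx => ?_⟩
  have := h g⁻¹ (inv_mem hg) _ hx
  simpa [mul_assoc] using this

theorem Norms.commutator {G A B : Subgroup GLn} (hA : Norms G A) (hB : Norms G B) :
    Norms G ⁅A, B⁆ := by
  intro g hg x hx
  induction hx using Subgroup.closure_induction with
  | mem v hv =>
    obtain ⟨a, ha, b, hb, rfl⟩ := hv
    rw [show g * ⁅a, b⁆ * g⁻¹ = ⁅g * a * g⁻¹, g * b * g⁻¹⁆ by
      simp only [commutatorElement_def]; group]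
    exact Subgroup.commutator_mem_commutator (hA g hg a ha) (hB g hg b hb)
  | one => simp
  | mul a b _ _ iha ihb =>
    rw [show g * (a * b) * g⁻¹ = (g * a * g⁻¹) * (g * b * g⁻¹) by group]
    exact mul_mem iha ihb
  | inv a _ iha =>
    rw [show g * a⁻¹ * g⁻¹ = (g * a * g⁻¹)⁻¹ by group]
    exact inv_mem iha

theorem Norms.inf {G A B : Subgroup GLn} (hA : Norms G A) (hB : Norms G B) : Norms G (A ⊓ B) :=
  fun g hg x hx => ⟨hA g hg x hx.1, hB g hg x hx.2⟩

theorem Norms.sup {G A B : Subgroup GLn} (hA : Norms G A) (hB : Norms G B) : Norms G (A ⊔ B) := by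
  intro g hg x hx
  rw [← Subgroup.closure_eq A, ← Subgroup.closure_eq B, ← Subgroup.closure_union] at hx ⊢
  induction hx using Subgroup.closure_induction with
  | mem v hv =>
    rcases hv with hv | hv
    · exact Subgroup.subset_closure (Or.inl (hA g hg v hv))
    · exact Subgroup.subset_closure (Or.inr (hB g hg v hv))
  | one => simp
  | mul a b _ _ iha ihb =>
    rw [show g * (a * b) * g⁻¹ = (g * a * g⁻¹) * (g * b * g⁻¹) by group]
    exact mul_mem iha ihb
  | inv a _ iha =>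
    rw [show g * a⁻¹ * g⁻¹ = (g * a * g⁻¹)⁻¹ by group]
    exact inv_mem iha

theorem Norms.scalars (G : Subgroup GLn) : Norms G ZZ :=
  fun g _ x hx => Cfsg.Geo.scalars_normal.conj_mem x hx g

theorem Norms.self (G : Subgroup GLn) : Norms G G :=
  fun _ hg _ hx => mul_mem (mul_mem hg hx) (inv_mem hg)

/-- If every commutator with `h` is scalar then `h` commutes with the derived subgroup. -/
theorem centralizes_commutator {A : Subgroup GLn} {h : GLn}
    (hh : ∀ x ∈ A, h * x * h⁻¹ * x⁻¹ ∈ ZZ) : ∀ x ∈ ⁅A, A⁆, h * x = x * h := by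
  intro x hx
  induction hx using Subgroup.closure_induction with
  | mem v hv =>
    obtain ⟨a, ha, b, hb, rfl⟩ := hv
    have : h * ⁅a, b⁆ * h⁻¹ = ⁅a, b⁆ := by
      calc h * ⁅a, b⁆ * h⁻¹ = ⁅(h * a * h⁻¹ * a⁻¹) * a, (h * b * h⁻¹ * b⁻¹) * b⁆ := by
            simp only [commutatorElement_def]; group
        _ = ⁅a, b⁆ := commutator_mul_scalar (hh a ha) (hh b hb)
    calc h * ⁅a, b⁆ = h * ⁅a, b⁆ * h⁻¹ * h := by group
      _ = ⁅a, b⁆ * h := by rw [this]
  | one => simp
  | mul a b _ _ iha ihb => rw [← mul_assoc, iha, mul_assoc, ihb, mul_assoc]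
  | inv a _ iha => exact ((show Commute h a from iha).inv_right).eq

theorem commutator_sup_scalar (A : Subgroup GLn) : ⁅A ⊔ ZZ, A ⊔ ZZ⁆ = ⁅A, A⁆ := by
  refine le_antisymm (Subgroup.commutator_le.mpr fun x hx y hy => ?_)
    (Subgroup.commutator_mono le_sup_left le_sup_left)
  haveI : (Cfsg.Geo.scalars ι F).Normal := Cfsg.Geo.scalars_normal
  rw [sup_comm] at hx hy
  obtain ⟨z, hz, a, ha, rfl⟩ := Subgroup.mem_sup_of_normal_left.mp hx
  obtain ⟨w, hw, b, hb, rfl⟩ := Subgroup.mem_sup_of_normal_left.mp hy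
  rw [commutator_mul_scalar hz hw]
  exact Subgroup.commutator_mem_commutator ha hb

theorem not_abelian_of_irreducible {M : Subgroup GLn} {b : Basis ι F VV} (hb : ∀ i, Eig M (b i)) :
    ⁅M, M⁆ = ⊥ := by
  rw [eq_bot_iff, Subgroup.commutator_le]
  intro x hx y hy
  rw [Subgroup.mem_bot, commutatorElement_eq_one_iff_mul_comm]
  refine Units.ext (eq_of_mulVec fun v => ?_)
  rw [← b.sum_repr v, Matrix.mulVec_sum, Matrix.mulVec_sum]
  refine Finset.sum_congr rfl fun i _ => ?_
  obtain ⟨c, hc⟩ := hb i x hx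
  obtain ⟨d, hd⟩ := hb i y hy
  rw [Matrix.mulVec_smul, Matrix.mulVec_smul, Units.val_mul, Units.val_mul, ← Matrix.mulVec_mulVec,
    ← Matrix.mulVec_mulVec, hd, Matrix.mulVec_smul, hc, Matrix.mulVec_smul, hd, smul_comm c d]

/-- A minimal non-scalar normal subgroup. -/
theorem exists_minimal [Finite F] {H : Subgroup GLn} (hH : ¬ H ≤ ZZ) :
    ∃ N : Subgroup GLn, N ≤ H ∧ Norms H N ∧ ¬ N ≤ ZZ ∧ ZZ ⊓ H ≤ N ∧
      ∀ M : Subgroup GLn, M ≤ N → Norms H M → ¬ M ≤ ZZ → M ⊔ (ZZ ⊓ H) = N := by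
  obtain ⟨N, ⟨h1, h2, h3, h4⟩, hmin⟩ := Set.Finite.exists_minimal
    (Set.toFinite {N : Subgroup GLn | N ≤ H ∧ Norms H N ∧ ¬ N ≤ ZZ ∧ ZZ ⊓ H ≤ N})
    ⟨H, le_rfl, Norms.self H, hH, inf_le_right⟩
  refine ⟨N, h1, h2, h3, h4, fun M hM hMn hMs => le_antisymm (sup_le hM h4) ?_⟩
  exact hmin ⟨sup_le (hM.trans h1) inf_le_right, hMn.sup ((Norms.scalars H).inf (Norms.self H)),
    fun h => hMs (le_sup_left.trans h), le_sup_right⟩ (sup_le hM h4)

/-- The conditions on a residual core other than those on subfields and forms. -/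
structure Core (H P : Subgroup GLn) : Prop where
  le : P ≤ H
  normal : ∀ h ∈ H, ∀ x ∈ P, h * x * h⁻¹ ∈ P
  perfect : ⁅P, P⁆ = P
  simple : IsSimpleGroup (P ⧸ (Cfsg.Geo.scalars ι F).subgroupOf P)
  nonabelian : ¬ IsMulCommutative (P ⧸ (Cfsg.Geo.scalars ι F).subgroupOf P)
  centralizer_scalar : ∀ h ∈ H, (∀ x ∈ P, h * x * h⁻¹ * x⁻¹ ∈ ZZ) → h ∈ ZZ
  absIrred : Cfsg.Geo.ActsAbsolutelyIrreducibly (Cfsg.Geo.matrixSet P)

theorem Core.residual {H P : Subgroup GLn} (h : Core H P)
    (hs : ∀ F₀ : Subfield F, F₀ ≠ ⊤ → ¬ Cfsg.Geo.RealisableOver F₀ (Cfsg.Geo.matrixSet P)) :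
    Cfsg.Geo.IsResidualCore H P :=
  ⟨h.le, h.normal, h.perfect, h.simple, h.nonabelian, h.centralizer_scalar, h.absIrred, hs⟩

theorem absIrred_of_sup [Nonempty ι] {P N : Subgroup GLn} (hN : Cfsg.Geo.ActsAbsolutelyIrreducibly (Cfsg.Geo.matrixSet N))
    (h : N ≤ P ⊔ ZZ) : Cfsg.Geo.ActsAbsolutelyIrreducibly (Cfsg.Geo.matrixSet P) := by
  haveI : (Cfsg.Geo.scalars ι F).Normal := Cfsg.Geo.scalars_normal
  constructor
  · rw [actsIrreducibly_iff]
    intro W hW
    refine (actsIrreducibly_iff N).mp hN.1 W fun g hg w hw => ?_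
    obtain ⟨p, hp, z, hz, rfl⟩ := Subgroup.mem_sup_of_normal_right.mp (h hg)
    obtain ⟨c, hc⟩ := (Cfsg.Geo.mem_scalars_iff z).mp hz
    rw [Units.val_mul, hc, Matrix.mul_smul, mul_one, Matrix.smul_mulVec]
    exact W.smul_mem _ (hW p hp w hw)
  · intro M hM
    refine hN.2 M ?_
    rintro _ ⟨g, hg, rfl⟩
    obtain ⟨p, hp, z, hz, rfl⟩ := Subgroup.mem_sup_of_normal_right.mp (h hg)
    obtain ⟨c, hc⟩ := (Cfsg.Geo.mem_scalars_iff z).mp hz
    simp only [Units.val_mul, hc, Matrix.mul_smul, mul_one, Matrix.smul_mul, hM _ ⟨p, hp, rfl⟩]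

theorem not_isFieldSubalgebra_scalar (hp : Nat.Prime nn) {K : Subalgebra F MM}
    (hK : Cfsg.Geo.IsFieldSubalgebra nn K) (h : ∀ k ∈ K, ∃ c : F, k = c • (1 : MM)) : False := by
  haveI : Nonempty ι := Fintype.card_pos_iff.mp hp.pos
  have hle : K = ⊥ := by
    rw [eq_bot_iff]
    intro k hk
    obtain ⟨c, rfl⟩ := h k hk
    exact Subalgebra.smul_mem _ (one_mem _) c
  have := hK.finrank_eq
  rw [hle, Subalgebra.finrank_bot] at this
  exact hp.one_lt.ne' this.symm

/-- A normal non-scalar subgroup of a perfect absolutely irreducible group of prime degree is abelian or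
absolutely irreducible. -/
theorem abelian_or_absIrred [Finite F] (hp : Nat.Prime nn) {P M : Subgroup GLn}
    (hperf : ⁅P, P⁆ = P) (hP : Cfsg.Geo.ActsAbsolutelyIrreducibly (Cfsg.Geo.matrixSet P))
    (hPM : Norms P M) (hM : ¬ M ≤ ZZ) :
    ⁅M, M⁆ = ⊥ ∨ Cfsg.Geo.ActsAbsolutelyIrreducibly (Cfsg.Geo.matrixSet M) := by
  rcases clifford hp hP.1 hPM hM with hirr | ⟨b, hb, -⟩
  · right
    rcases comm_field hp hirr with h | h
    · exact ⟨hirr, h⟩
    · refine (not_isFieldSubalgebra_scalar hp h fun k hk => hP.2 k ?_).elim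
      rintro _ ⟨x, hx, rfl⟩
      rw [← hperf] at hx
      refine Eq.symm ?_
      induction hx using Subgroup.closure_induction with
      | mem v hv =>
        obtain ⟨a, ha, b, hb, rfl⟩ := hv
        exact commutator_centralizes hp.pos h (comm_normalized hPM ha) (comm_normalized hPM hb) hk
      | one => simp
      | mul a b _ _ iha ihb =>
        simp only at iha ihb ⊢
        rw [Units.val_mul, mul_assoc, ihb, ← mul_assoc, iha, mul_assoc]
      | inv a _ iha => exact ((show Commute (a : MM) k from iha).units_inv_left).eq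
  · exact Or.inl (not_abelian_of_irreducible hb)

set_option maxHeartbeats 800000 in
/-- **The dichotomy.** -/
theorem class_two_or_core [Finite F] (hp : Nat.Prime nn) {H N : Subgroup GLn}
    (hle : N ≤ H) (hnorm : Norms H N)
    (hmin : ∀ M : Subgroup GLn, M ≤ N → Norms H M → ¬ M ≤ ZZ → M ⊔ (ZZ ⊓ H) = N)
    (hN : Cfsg.Geo.ActsAbsolutelyIrreducibly (Cfsg.Geo.matrixSet N)) :
    ⁅N, N⁆ ≤ ZZ ∨ Core H ⁅N, N⁆ := by
  by_cases hcomm : ⁅N, N⁆ ≤ ZZ
  · exact Or.inl hcomm
  right
  haveI : Nonempty ι := Fintype.card_pos_iff.mp hp.pos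
  haveI : (Cfsg.Geo.scalars ι F).Normal := Cfsg.Geo.scalars_normal
  set P := ⁅N, N⁆ with hPdef
  have hPN : P ≤ N := Subgroup.commutator_le.mpr fun a ha b hb =>
    mul_mem (mul_mem (mul_mem ha hb) (inv_mem ha)) (inv_mem hb)
  have hPnorm : Norms H P := hnorm.commutator hnorm
  have hNP : N ≤ P ⊔ ZZ := (hmin P hPN hPnorm hcomm).ge.trans (sup_le_sup_left inf_le_left _)
  have hperf : ⁅P, P⁆ = P := by
    refine le_antisymm (Subgroup.commutator_mono hPN hPN) ?_
    calc P = ⁅N, N⁆ := hPdef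
      _ ≤ ⁅P ⊔ ZZ, P ⊔ ZZ⁆ := Subgroup.commutator_mono hNP hNP
      _ = ⁅P, P⁆ := commutator_sup_scalar P
  have hPabs := absIrred_of_sup hN hNP
  -- no proper non-scalar normal subgroup over the scalars
  have hsimp : ∀ M : Subgroup GLn, M ≤ P → Norms P M → ZZ ⊓ P ≤ M → ¬ M ≤ ZZ → M = P := by
    intro M' hM'P hPM' hZM' hM's
    obtain ⟨M, ⟨hMM', hPM, hZM, hMs⟩, hMmin⟩ := Set.Finite.exists_minimal
      (Set.toFinite {M : Subgroup GLn | M ≤ M' ∧ Norms P M ∧ ZZ ⊓ P ≤ M ∧ ¬ M ≤ ZZ})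
      ⟨M', le_rfl, hPM', hZM', hM's⟩
    suffices M = P from le_antisymm hM'P (this.symm.le.trans hMM')
    have hMP : M ≤ P := hMM'.trans hM'P
    let c : H → Subgroup GLn := fun h => M.map (MulAut.conj (h : GLn)).toMonoidHom
    have hcP : ∀ h : H, c h ≤ P := by
      rintro h _ ⟨x, hx, rfl⟩
      exact hPnorm _ h.2 x (hMP hx)
    have hcnorm : ∀ h : H, Norms P (c h) := by
      rintro ⟨h, hh⟩ p hp' _ ⟨x, hx, rfl⟩
      refine ⟨(h⁻¹ * p * h) * x * (h⁻¹ * p * h)⁻¹, hPM _ ?_ x hx, ?_⟩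
      · simpa using hPnorm h⁻¹ (inv_mem hh) p hp'
      · simp [mul_assoc]
    have hcs : ∀ (h : H) (K : Subgroup GLn), K ≤ c h → Norms P K → ZZ ⊓ P ≤ K → ¬ K ≤ ZZ → c h ≤ K := by
      rintro ⟨h, hh⟩ K hK hKn hKz hKs _ ⟨x, hx, rfl⟩
      have hpre : M ≤ K.comap (MulAut.conj h).toMonoidHom := by
        refine (le_inf le_rfl ?_ : M ≤ M ⊓ K.comap (MulAut.conj h).toMonoidHom).trans inf_le_right
        refine (hMmin ⟨inf_le_left.trans hMM', ?_, ?_, fun hsub => hKs fun y hy => ?_⟩ inf_le_left).trans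
          inf_le_right
        · intro p hp' y hy
          refine ⟨hPM p hp' y hy.1, ?_⟩
          have := hKn (h * p * h⁻¹) (hPnorm h hh p hp') (h * y * h⁻¹) hy.2
          show h * (p * y * p⁻¹) * h⁻¹ ∈ K
          convert this using 1
          group
        · intro z hz
          refine ⟨hZM hz, ?_⟩
          show h * z * h⁻¹ ∈ K
          rw [scalars_comm hz.1 h, mul_inv_cancel_right]
          exact hKz hz
        · obtain ⟨u, hu, rfl⟩ := hK hy
          exact Cfsg.Geo.scalars_normal.conj_mem u (hsub ⟨hu, hy⟩) h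
      exact hpre hx
    by_cases hstable : Norms H M
    · refine le_antisymm hMP ?_
      calc P = ⁅N, N⁆ := hPdef
        _ ≤ ⁅M ⊔ ZZ, M ⊔ ZZ⁆ := by
            have := (hmin M (hMP.trans hPN) hstable hMs).ge.trans (sup_le_sup_left inf_le_left _)
            exact Subgroup.commutator_mono this this
        _ = ⁅M, M⁆ := commutator_sup_scalar M
        _ ≤ M := Subgroup.commutator_le.mpr fun a ha b hb =>
            mul_mem (mul_mem (mul_mem ha hb) (inv_mem ha)) (inv_mem hb)
    exfalso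
    -- distinct conjugates commute modulo scalars
    have hdist : ∀ h k : H, c h ≠ c k → ∀ x ∈ c h, ∀ y ∈ c k, ⁅x, y⁆ ∈ ZZ := by
      intro h k hne x hx y hy
      by_contra hxy
      have hzc : ∀ g : H, ZZ ⊓ P ≤ c g := fun g z hz =>
        ⟨z, hZM hz, by simp [scalars_comm hz.1 (g : GLn)]⟩
      have hK1 : Norms P (c h ⊓ c k) := (hcnorm h).inf (hcnorm k)
      have hmem : ⁅x, y⁆ ∈ c h ⊓ c k := by
        refine Subgroup.mem_inf.mpr ⟨?_, ?_⟩
        · rw [commutatorElement_def, mul_assoc (x * y), mul_assoc x]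
          exact mul_mem hx (by
            simpa [mul_assoc] using hcnorm h y (hcP k hy) x⁻¹ (inv_mem hx))
        · rw [commutatorElement_def]
          exact mul_mem (hcnorm k x (hcP h hx) y hy) (inv_mem hy)
      have hKs : ¬ c h ⊓ c k ≤ ZZ := fun hsub => hxy (hsub hmem)
      exact hne ((le_antisymm inf_le_left (hcs h _ inf_le_left hK1 (le_inf (hzc h) (hzc k)) hKs)).symm.trans
        (le_antisymm inf_le_right (hcs k _ inf_le_right hK1 (le_inf (hzc h) (hzc k)) hKs)))
    have hc1 : c 1 = M := by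
      ext x
      simp [c]
    obtain ⟨k, hk⟩ : ∃ k : H, c k ≠ M := by
      by_contra hall
      push Not at hall
      exact hstable fun h hh x hx => (hall ⟨h, hh⟩).le ⟨x, hx, rfl⟩
    by_cases hMM : ⁅M, M⁆ ≤ ZZ
    · -- all conjugates commute modulo scalars
      let π := QuotientGroup.mk' (Cfsg.Geo.scalars ι F)
      have hπ : ∀ x y : GLn, ⁅x, y⁆ ∈ ZZ ↔ π x * π y = π y * π x := fun x y => by
        rw [← commutatorElement_eq_one_iff_mul_comm, ← map_commutatorElement]
        exact (QuotientGroup.eq_one_iff _).symm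
      let U : Set GLn := {x | ∃ h : H, x ∈ c h}
      have hU : ∀ x ∈ U, ∀ y ∈ U, π x * π y = π y * π x := by
        rintro x ⟨h, hx⟩ y ⟨l, hy⟩
        rw [← hπ]
        by_cases hne : c h = c l
        · rw [← hne] at hy
          obtain ⟨a, ha, rfl⟩ := hx
          obtain ⟨b, hb, rfl⟩ := hy
          rw [← map_commutatorElement (MulAut.conj (h : GLn)).toMonoidHom]
          exact Cfsg.Geo.scalars_normal.conj_mem _ (hMM (Subgroup.commutator_mem_commutator ha hb)) _
        · exact hdist h l hne x hx y hy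
      have hJ : ∀ x ∈ Subgroup.closure U, ∀ y ∈ Subgroup.closure U, π x * π y = π y * π x := by
        have h1 : Subgroup.closure U ≤ (Subgroup.centralizer (π '' U)).comap π := by
          rw [Subgroup.closure_le]
          rintro x hx _ ⟨y, hy, rfl⟩
          exact hU y hy x hx
        intro x hx y hy
        have h2 : Subgroup.closure U ≤ (Subgroup.centralizer (π '' (Subgroup.closure U : Set GLn))).comap π := by
          rw [Subgroup.closure_le]
          rintro u hu _ ⟨v, hv, rfl⟩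
          exact (h1 hv (π u) ⟨u, hu, rfl⟩).symm
        exact h2 hy (π x) ⟨x, hx, rfl⟩
      have hJn : Norms H (Subgroup.closure U) := by
        intro g hg x hx
        induction hx using Subgroup.closure_induction with
        | mem v hv =>
          obtain ⟨h, u, hu, rfl⟩ := hv
          exact Subgroup.subset_closure ⟨⟨g, hg⟩ * h, u, hu, by simp [mul_assoc]⟩
        | one => simp
        | mul a b _ _ iha ihb =>
          rw [show g * (a * b) * g⁻¹ = (g * a * g⁻¹) * (g * b * g⁻¹) by group]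
          exact mul_mem iha ihb
        | inv a _ iha =>
          rw [show g * a⁻¹ * g⁻¹ = (g * a * g⁻¹)⁻¹ by group]
          exact inv_mem iha
      have hJN : Subgroup.closure U ≤ N := by
        rw [Subgroup.closure_le]
        rintro x ⟨h, hx⟩
        exact hPN (hcP h hx)
      have hJs : ¬ Subgroup.closure U ≤ ZZ := fun hsub =>
        hMs fun x hx => hsub (Subgroup.subset_closure ⟨1, hc1.ge hx⟩)
      have := (hmin _ hJN hJn hJs).ge.trans (sup_le_sup_left inf_le_left _)
      apply hcomm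
      calc P = ⁅N, N⁆ := hPdef
        _ ≤ ⁅Subgroup.closure U ⊔ ZZ, Subgroup.closure U ⊔ ZZ⁆ := Subgroup.commutator_mono this this
        _ = ⁅Subgroup.closure U, Subgroup.closure U⁆ := commutator_sup_scalar _
        _ ≤ ZZ := Subgroup.commutator_le.mpr fun x hx y hy => (hπ x y).mpr (hJ x hx y hy)
    · -- a second conjugate would centralise an absolutely irreducible group
      have hMabs : Cfsg.Geo.ActsAbsolutelyIrreducibly (Cfsg.Geo.matrixSet M) :=
        (abelian_or_absIrred hp hperf hPabs hPM hMs).resolve_left fun h => hMM (h.trans_le bot_le)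
      have hD : M ≤ ⁅M, M⁆ ⊔ ZZ := by
        refine le_trans (hMmin ⟨?_, ((hPM.commutator hPM).sup ((Norms.scalars P).inf (Norms.self P))),
          le_sup_right, fun h => hMM (le_sup_left.trans h)⟩ ?_) (sup_le_sup_left inf_le_left _)
        · exact (sup_le (Subgroup.commutator_le.mpr fun a ha b hb =>
            mul_mem (mul_mem (mul_mem ha hb) (inv_mem ha)) (inv_mem hb)) hZM).trans hMM'
        · exact sup_le (Subgroup.commutator_le.mpr fun a ha b hb =>
            mul_mem (mul_mem (mul_mem ha hb) (inv_mem ha)) (inv_mem hb)) hZM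
      refine hMs fun x hx => ?_
      have hy : (k : GLn) * x * (k : GLn)⁻¹ ∈ c k := ⟨x, hx, rfl⟩
      set y := (k : GLn) * x * (k : GLn)⁻¹ with hydef
      have hcy := centralizes_commutator (A := M) (h := y) (fun a ha => by
        have := hdist k 1 (by rw [hc1]; exact hk) y hy a (hc1.ge ha)
        rwa [commutatorElement_def] at this)
      obtain ⟨s, hs⟩ := hMabs.2 (y : MM) (by
        rintro _ ⟨a, ha, rfl⟩
        obtain ⟨d, hd, z, hz, rfl⟩ := Subgroup.mem_sup_of_normal_right.mp (hD ha)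
        rw [← Units.val_mul, ← Units.val_mul, ← mul_assoc, hcy d hd, mul_assoc, scalars_comm hz y, ← mul_assoc])
      have hys : y ∈ ZZ := mem_scalars_of_matrix hp.pos hs
      have := Cfsg.Geo.scalars_normal.conj_mem y hys (k : GLn)⁻¹
      rwa [hydef, show (k : GLn)⁻¹ * ((k : GLn) * x * (k : GLn)⁻¹) * ((k : GLn)⁻¹)⁻¹ = x by group] at this
  haveI hSn : ((Cfsg.Geo.scalars ι F).subgroupOf P).Normal := inferInstance
  have hq : ∀ x y : P, ⁅(x : GLn), (y : GLn)⁆ ∈ ZZ ↔
      (QuotientGroup.mk x : P ⧸ (Cfsg.Geo.scalars ι F).subgroupOf P) * QuotientGroup.mk y =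
        QuotientGroup.mk y * QuotientGroup.mk x := fun x y => by
    rw [← commutatorElement_eq_one_iff_mul_comm,
      ← QuotientGroup.mk'_apply, ← QuotientGroup.mk'_apply, ← map_commutatorElement, QuotientGroup.mk'_apply,
      QuotientGroup.eq_one_iff]
    exact Iff.rfl
  have hPs : ¬ ⁅P, P⁆ ≤ ZZ := by rwa [hperf]
  refine ⟨hPN.trans hle, hPnorm, hperf, ?_, ?_, ?_, hPabs⟩
  · haveI : Nontrivial (P ⧸ (Cfsg.Geo.scalars ι F).subgroupOf P) := by
      rw [← not_subsingleton_iff_nontrivial]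
      intro hs
      exact hPs (Subgroup.commutator_le.mpr fun x hx y hy => (hq ⟨x, hx⟩ ⟨y, hy⟩).mpr (Subsingleton.elim _ _))
    refine ⟨fun K hK => ?_⟩
    let q := QuotientGroup.mk' ((Cfsg.Geo.scalars ι F).subgroupOf P)
    generalize hLdef : (K.comap q).map P.subtype = L
    by_cases hL : L ≤ ZZ
    · left
      rw [eq_bot_iff]
      intro u hu
      obtain ⟨x, rfl⟩ := QuotientGroup.mk'_surjective ((Cfsg.Geo.scalars ι F).subgroupOf P) u
      rw [Subgroup.mem_bot]
      exact (QuotientGroup.eq_one_iff x).mpr (Subgroup.mem_subgroupOf.mpr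
        (hL (hLdef ▸ Subgroup.mem_map_of_mem P.subtype (Subgroup.mem_comap.mpr hu))))
    · right
      have h1 : L ≤ P := by
        rw [← hLdef]
        exact Subgroup.map_subtype_le _
      have h2 : Norms P L := by
        rw [← hLdef]
        intro p hp' u hu
        obtain ⟨x, hx, rfl⟩ := Subgroup.mem_map.mp hu
        have hn := (hK.comap q).conj_mem x hx ⟨p, hp'⟩
        have := Subgroup.mem_map_of_mem P.subtype hn
        rw [map_mul, map_mul, map_inv] at this
        exact this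
      have h3 : ZZ ⊓ P ≤ L := by
        rw [← hLdef]
        intro z hz
        refine Subgroup.mem_map.mpr ⟨⟨z, hz.2⟩, Subgroup.mem_comap.mpr ?_, rfl⟩
        have : q ⟨z, hz.2⟩ = 1 := (QuotientGroup.eq_one_iff _).mpr (Subgroup.mem_subgroupOf.mpr hz.1)
        rw [this]
        exact one_mem _
      have hLP : L = P := hsimp L h1 h2 h3 hL
      rw [eq_top_iff]
      intro u _
      obtain ⟨x, rfl⟩ := QuotientGroup.mk'_surjective ((Cfsg.Geo.scalars ι F).subgroupOf P) u
      obtain ⟨y, hy, hyx⟩ := Subgroup.mem_map.mp (hLdef.symm ▸ hLP.ge x.2)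
      rw [← Subtype.ext hyx]
      exact hy
  · intro hab
    exact hPs (Subgroup.commutator_le.mpr fun x hx y hy =>
      (hq ⟨x, hx⟩ ⟨y, hy⟩).mpr (hab.is_comm.comm _ _))
  · intro h _ hh
    have hc := centralizes_commutator hh
    rw [hperf] at hc
    obtain ⟨s, hs⟩ := hPabs.2 (h : MM) (by
      rintro _ ⟨a, ha, rfl⟩
      rw [← Units.val_mul, ← Units.val_mul, hc a ha])
    exact mem_scalars_of_matrix hp.pos hs

end Cfsg.Agent.Lib.KnownA.PrimeDim
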