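import Cfsg.Agent.Lib.KnownA.PrimeDim.Clifford
import Cfsg.Agent.Lib.MaxSub.Subfield

/-!
Over the field with four elements the normaliser of a cubic extension field inside the special linear group
lies in a subfield group.
-/

set_option autoImplicit false
set_option linter.style.haveILetI false
set_option linter.unusedSimpArgs false

namespace Cfsg.Agent.Lib.KnownA.PrimeDim

open Matrix Cfsg.Geo
open scoped Matrix
open Cfsg.Agent.Lib

variable {F : Type*} [Field F] [Fintype F]

local notation "GL3" => Matrix.GeneralLinearGroup (Fin 3) F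
local notation "M3" => Matrix (Fin 3) (Fin 3) F

theorem det_gen_ne_one (hq : Fintype.card F = 4) {K : Subalgebra F M3} (hK : IsFieldSubalgebra 3 K) {u : GL3}
    (hu : (u : M3) ∈ K) (hgen : ∀ k ∈ K, k ≠ 0 → ∃ i : ℕ, k = (u : M3) ^ i) : (u : M3).det ≠ 1 := by
  intro hd
  have hns : ∀ c : F, Matrix.scalar (Fin 3) c - (u : M3) ≠ 0 := by
    intro c hc
    rw [sub_eq_zero, Matrix.scalar_apply, ← Matrix.smul_one_eq_diagonal] at hc
    have hle : K = ⊥ := by
      rw [eq_bot_iff]
      intro k hk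
      by_cases hk0 : k = 0
      · rw [hk0]; exact zero_mem _
      obtain ⟨i, rfl⟩ := hgen k hk hk0
      rw [← hc, _root_.smul_pow, one_pow]
      exact Subalgebra.smul_mem _ (one_mem _) _
    have := hK.finrank_eq
    rw [hle, Subalgebra.finrank_bot] at this
    omega
  have heval : ∀ c : F, (u : M3).charpoly.eval c = 1 := by
    intro c
    have hmem : Matrix.scalar (Fin 3) c - (u : M3) ∈ K := by
      refine K.sub_mem ?_ hu
      rw [Matrix.scalar_apply, ← Matrix.smul_one_eq_diagonal]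
      exact K.smul_mem (K.one_mem) c
    obtain ⟨i, hi⟩ := hgen _ hmem (hns c)
    rw [Matrix.eval_charpoly, hi, Matrix.det_pow, hd, one_pow]
  have hdeg : (u : M3).charpoly.natDegree = 3 := by
    rw [Matrix.charpoly_natDegree_eq_dim, Fintype.card_fin]
  have h0 : (u : M3).charpoly - 1 = 0 := by
    refine Polynomial.eq_zero_of_natDegree_lt_card_of_eval_eq_zero _ (f := id) Function.injective_id
      (fun c => by simp [heval c]) ?_
    refine lt_of_le_of_lt (Polynomial.natDegree_sub_le _ _) ?_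
    rw [hdeg, Polynomial.natDegree_one, hq]
    norm_num
  rw [sub_eq_zero] at h0
  rw [h0, Polynomial.natDegree_one] at hdeg
  omega

theorem det_subfieldSubgroup (hq : Fintype.card F = 4) {F₀ : Subfield F} (hF₀ : ∀ c ∈ F₀, c = 0 ∨ c = 1) {P g : GL3}
    (hg : g ∈ subfieldSubgroup F₀ P) : (g : M3).det = 1 := by
  obtain ⟨h, hh, rfl⟩ := hg
  obtain ⟨_, ⟨h₀, rfl⟩, z, hz, rfl⟩ := Subgroup.mem_sup_of_normal_right.mp hh
  obtain ⟨c, hc⟩ := (mem_scalars_iff z).mp hz
  have hc3 : (c : F) ^ 3 = 1 := by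
    have := FiniteField.pow_card_sub_one_eq_one (c : F) c.ne_zero
    rwa [hq] at this
  have h0 : ((h₀ : Matrix (Fin 3) (Fin 3) F₀).map F₀.subtype).det = 1 := by
    have hne : (h₀ : Matrix (Fin 3) (Fin 3) F₀).det ≠ 0 :=
      ((Matrix.isUnit_iff_isUnit_det _).mp h₀.isUnit).ne_zero
    rw [← RingHom.mapMatrix_apply, ← RingHom.map_det]
    rcases hF₀ _ (h₀ : Matrix (Fin 3) (Fin 3) F₀).det.2 with h | h
    · exact absurd (Subtype.ext h) hne
    · exact h
  rw [MulEquiv.coe_toMonoidHom, MulAut.conj_apply, Units.val_mul, Units.val_mul, Matrix.det_units_conj,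
    Units.val_mul, Matrix.det_mul, hc, Matrix.det_smul, Matrix.det_one, mul_one, Fintype.card_fin, hc3, mul_one]
  exact h0

/-- The prime subfield of a field of order four. -/
theorem exists_two (hq : Fintype.card F = 4) :
    (2 : F) = 0 ∧ ∃ F₀ : Subfield F, Nat.card F₀ = 2 ∧ ∀ c ∈ F₀, c = 0 ∨ c = 1 := by
  classical
  obtain ⟨p, hp⟩ := CharP.exists F
  obtain ⟨e, hpp, he⟩ := FiniteField.card F p
  obtain rfl : p = 2 := by
    have h1 : p ∣ 2 ^ 2 := by
      rw [show (2 : ℕ) ^ 2 = Fintype.card F by rw [hq]; norm_num, he]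
      exact dvd_pow_self p e.ne_zero
    exact (Nat.prime_dvd_prime_iff_eq hpp Nat.prime_two).1 (hpp.dvd_of_dvd_pow h1)
  have h2 : (2 : F) = 0 := CharTwo.two_eq_zero
  haveI : Fact (Nat.Prime 2) := ⟨Nat.prime_two⟩
  let f : ZMod 2 →+* F := ZMod.castHom dvd_rfl F
  refine ⟨h2, f.fieldRange, ?_, ?_⟩
  · have : Nat.card f.fieldRange = Nat.card (ZMod 2) :=
      (Nat.card_congr (Equiv.ofInjective f f.injective)).symm
    rw [this, Nat.card_zmod]
  · rintro _ ⟨a, rfl⟩
    fin_cases a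
    · exact Or.inl (map_zero f)
    · exact Or.inr (map_one f)

set_option maxHeartbeats 800000 in
/-- **The normaliser of a cubic field over the field with four elements.** -/
theorem normalizer_le_subfield (hq : Fintype.card F = 4) {K : Subalgebra F M3} (hK : IsFieldSubalgebra 3 K) :
    ∃ (F₀ : Subfield F) (P : GL3), Nat.card F₀ = 2 ∧ F₀ ≠ ⊤ ∧
      subalgebraNormalizer K ⊓ specialLinear (Fin 3) F ≤ subfieldSubgroup F₀ P := by
  classical
  obtain ⟨h2, F₀, hF₀c, hF₀⟩ := exists_two hq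
  obtain ⟨u, hu, hgen⟩ := exists_gen (ι := Fin 3) (by simp) hK
  -- the generator has order 63
  have hcardK : Nat.card K = 64 := by
    rw [Module.natCard_eq_pow_finrank (K := F), Nat.card_eq_fintype_card, hq]
    show 4 ^ Module.finrank F K = 64
    rw [hK.finrank_eq]
    norm_num
  have hmemK : ∀ i : ℕ, (u : M3) ^ i ∈ K := fun i => K.pow_mem hu i
  have hord : orderOf u = 63 := by
    have hset : (K : Set M3) \ {0} = (fun x : GL3 => (x : M3)) '' (Submonoid.powers u : Set GL3) := by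
      ext k
      constructor
      · rintro ⟨hk, hk0⟩
        obtain ⟨i, rfl⟩ := hgen k hk hk0
        exact ⟨u ^ i, ⟨i, rfl⟩, Units.val_pow_eq_pow_val u i⟩
      · rintro ⟨_, ⟨i, rfl⟩, rfl⟩
        exact ⟨by simpa using hmemK i, (Units.ne_zero _)⟩
    have h1 : ((K : Set M3) \ {0}).ncard = 63 := by
      rw [Set.ncard_sdiff_singleton_of_mem K.zero_mem, ← Nat.card_coe_set_eq]
      exact congrArg (· - 1) hcardK
    rw [hset, Set.ncard_image_of_injective _ Units.val_injective, ← Nat.card_coe_set_eq] at h1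
    rw [← h1]
    exact (Nat.card_submonoidPowers (a := u)).symm
  have hu63 : u ^ 63 = 1 := hord ▸ pow_orderOf_eq_one u
  have hdvd : ∀ {i : ℕ}, u ^ i = 1 → 63 ∣ i := fun {i} h => hord ▸ orderOf_dvd_of_pow_eq_one h
  -- u^21 is a scalar
  have h21 : ∃ z : GL3, z ∈ scalars (Fin 3) F ∧ u ^ 21 = z := by
    obtain ⟨w, hw0, hw1⟩ : ∃ w : F, w ≠ 0 ∧ w ≠ 1 := by
      by_contra hc
      push Not at hc
      have : Fintype.card F ≤ ({0, 1} : Finset F).card := by
        rw [← Finset.card_univ]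
        refine Finset.card_le_card fun a _ => ?_
        by_cases ha : a = 0
        · simp [ha]
        · simp [hc a ha]
      have := ({0, 1} : Finset F).card_le_univ
      have h3 : ({0, 1} : Finset F).card ≤ 2 := Finset.card_le_two
      omega
    obtain ⟨i, hi⟩ := hgen (w • (1 : M3)) (K.smul_mem K.one_mem w) (by
      intro h
      have := congrFun (congrFun h 0) 0
      simp [hw0] at this)
    have hz : u ^ i ∈ scalars (Fin 3) F :=
      mem_scalars_of_matrix (ι := Fin 3) (by simp) (c := w) (by rw [Units.val_pow_eq_pow_val, ← hi])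
    have h3i : 21 ∣ i := by
      have hw3 : w ^ 3 = 1 := by
        have := FiniteField.pow_card_sub_one_eq_one w hw0
        rwa [hq] at this
      have : u ^ (i * 3) = 1 := by
        refine Units.ext ?_
        rw [Units.val_pow_eq_pow_val, pow_mul, ← hi, _root_.smul_pow, one_pow, hw3, one_smul, Units.val_one]
      have := hdvd this
      omega
    obtain ⟨j, rfl⟩ := h3i
    have hj : ¬ 3 ∣ j := by
      rintro ⟨l, rfl⟩
      have : (u : M3) ^ (21 * (3 * l)) = 1 := by
        rw [← Units.val_pow_eq_pow_val, show 21 * (3 * l) = 63 * l by ring, pow_mul, hu63, one_pow, Units.val_one]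
      rw [this] at hi
      have := congrFun (congrFun hi 0) 0
      simp at this
      exact hw1 this
    refine ⟨_, ?_, rfl⟩
    have hmod : ∀ m : ℕ, u ^ (21 * m) = (u ^ 21) ^ (m % 3) := by
      intro m
      conv_lhs => rw [← Nat.div_add_mod m 3, mul_add, ← mul_assoc, show 21 * 3 = 63 by norm_num, pow_add, pow_mul,
        hu63, one_pow, one_mul, pow_mul]
    rw [hmod] at hz
    rcases (by omega : j % 3 = 1 ∨ j % 3 = 2) with hj1 | hj1
    · rwa [hj1, pow_one] at hz
    · rw [hj1] at hz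
      have := Subgroup.pow_mem _ hz 2
      rw [← pow_mul, ← pow_mul, show 21 * (2 * 2) = 63 + 21 by norm_num, pow_add, hu63, one_mul] at this
      exact this
  -- an element of order seven with the chosen cubic relation
  have hmul0 : ∀ {a b : M3}, a ∈ K → a * b = 0 → a = 0 ∨ b = 0 := by
    intro a b ha hab
    by_cases h0 : a = 0
    · exact Or.inl h0
    obtain ⟨i, rfl⟩ := hgen a ha h0
    exact Or.inr ((u.isUnit.pow i).mul_right_eq_zero.mp hab)
  have htwo : ∀ a : M3, a + a = 0 := fun a => by rw [← two_smul F a, h2, zero_smul]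
  set x : M3 := (u : M3) ^ 9 with hx
  have hx7 : x ^ 7 = 1 := by rw [hx, ← pow_mul, ← Units.val_pow_eq_pow_val, hu63, Units.val_one]
  have hx1 : x ≠ 1 := by
    intro h
    have : u ^ 9 = 1 := Units.ext (by rw [Units.val_pow_eq_pow_val]; exact h)
    have := hdvd this
    omega
  obtain ⟨t, ht, htrel, ht9⟩ : ∃ t : GL3, (t : M3) ∈ K ∧ (t : M3) ^ 3 = (t : M3) + 1 ∧ ∃ a, u ^ 9 = t ^ a := by
    have e : (x + 1) * ((x ^ 3 + x + 1) * (x ^ 3 + x ^ 2 + 1)) = 0 := by
      have e1 : (x + 1) * ((x ^ 3 + x + 1) * (x ^ 3 + x ^ 2 + 1)) =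
          (x ^ 7 + 1) + ((x ^ 6 + x ^ 6) + (x ^ 5 + x ^ 5) + (x ^ 4 + x ^ 4) + (x ^ 4 + x ^ 4)
            + (x ^ 3 + x ^ 3) + (x ^ 3 + x ^ 3) + (x ^ 2 + x ^ 2) + (x + x)) := by noncomm_ring
      simp only [htwo, add_zero] at e1
      rw [e1, hx7, htwo]
    have hxK : x ∈ K := hmemK 9
    rcases hmul0 (K.add_mem hxK K.one_mem) e with h | h
    · refine absurd ?_ hx1
      calc x = x + 1 + 1 := by rw [add_assoc, htwo, add_zero]
        _ = 1 := by rw [h, zero_add]
    rcases hmul0 (K.add_mem (K.add_mem (K.pow_mem hxK 3) hxK) K.one_mem) h with h | h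
    · refine ⟨u ^ 9, by simpa using hmemK 9, ?_, 1, (pow_one _).symm⟩
      rw [Units.val_pow_eq_pow_val, ← hx]
      calc x ^ 3 = x ^ 3 + x + 1 + (x + 1) := by
            rw [show x ^ 3 + x + 1 + (x + 1) = x ^ 3 + ((x + x) + (1 + 1)) by abel, htwo, htwo, add_zero, add_zero]
        _ = x + 1 := by rw [h, zero_add]
    · refine ⟨u ^ 54, by simpa using hmemK 54, ?_, 6, ?_⟩
      · rw [Units.val_pow_eq_pow_val, show (54 : ℕ) = 9 * 6 by norm_num, pow_mul, ← hx, ← pow_mul,
          show 6 * 3 = 7 + 7 + 4 by norm_num, pow_add, pow_add, hx7, one_mul, one_mul]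
        have e4 : x ^ 7 + x ^ 6 + x ^ 4 = 0 := by
          rw [show x ^ 7 + x ^ 6 + x ^ 4 = x ^ 4 * (x ^ 3 + x ^ 2 + 1) by noncomm_ring, h, mul_zero]
        rw [hx7] at e4
        calc x ^ 4 = x ^ 4 + (1 + x ^ 6 + x ^ 4) := by rw [e4, add_zero]
          _ = (x ^ 4 + x ^ 4) + (x ^ 6 + 1) := by abel
          _ = x ^ 6 + 1 := by rw [htwo, zero_add]
      · rw [← pow_mul, show 54 * 6 = 63 * 5 + 9 by norm_num, pow_add, pow_mul, hu63, one_pow, one_mul]
  -- the rational lattice
  let T : M3 := (t : M3)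
  let L : (Fin 3 → F) → M3 := fun a => a 0 • (1 : M3) + a 1 • T + a 2 • T ^ 2
  have hLK : ∀ a, L a ∈ K := fun a => K.add_mem (K.add_mem (K.smul_mem K.one_mem _) (K.smul_mem ht _))
    (K.smul_mem (K.pow_mem ht 2) _)
  have hL0 : ∀ a, L a = 0 → a = 0 := by
    have hTns : ∀ c : F, T ≠ c • (1 : M3) := by
      intro c hc
      have hc' : c ^ 3 = c + 1 := by
        have := congrFun (congrFun htrel 0) 0
        change (T ^ 3) 0 0 = (T + 1) 0 0 at this
        rw [hc, _root_.smul_pow, one_pow] at this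
        simpa using this
      rcases eq_or_ne c 0 with rfl | hc0
      · simp at hc'
      · have h3 := FiniteField.pow_card_sub_one_eq_one c hc0
        rw [hq] at h3
        rw [h3] at hc'
        exact hc0 (by linear_combination -hc')
    have hlin : ∀ p q : F, p • (1 : M3) + q • T = 0 → p = 0 ∧ q = 0 := by
      intro p q h
      rcases eq_or_ne q 0 with rfl | hq0
      · have := congrFun (congrFun h 0) 0
        simp at this
        exact ⟨this, rfl⟩
      · refine absurd ?_ (hTns (-(q⁻¹ * p)))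
        have h' : q • T = -(p • (1 : M3)) := eq_neg_of_add_eq_zero_right h
        rw [neg_smul, ← smul_smul, ← smul_neg, ← h', smul_smul, inv_mul_cancel₀ hq0, one_smul]
    intro a h
    rcases eq_or_ne (a 2) 0 with h20 | h20
    · have h' : a 0 • (1 : M3) + a 1 • T = 0 := by simpa [L, h20] using h
      obtain ⟨p0, p1⟩ := hlin _ _ h'
      funext i
      fin_cases i
      exacts [p0, p1, h20]
    · exfalso
      obtain ⟨p, q, hT2⟩ : ∃ p q : F, T ^ 2 = p • (1 : M3) + q • T := by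
        refine ⟨-((a 2)⁻¹ * a 0), -((a 2)⁻¹ * a 1), ?_⟩
        have h' : a 2 • T ^ 2 = -(a 0 • (1 : M3) + a 1 • T) := eq_neg_of_add_eq_zero_right h
        have h'' := congrArg (fun M => (a 2)⁻¹ • M) h'
        simp only [smul_smul, inv_mul_cancel₀ h20, one_smul, smul_neg, smul_add] at h''
        rw [h'', neg_smul, neg_smul, neg_add]
      have hT3 : T ^ 3 = (p * q) • (1 : M3) + (p + q * q) • T := by
        rw [pow_succ', hT2, mul_add, Matrix.mul_smul, Matrix.mul_smul, mul_one, ← pow_two, hT2, smul_add, smul_smul,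
          smul_smul, add_smul, mul_comm q p]
        abel
      obtain ⟨e0, e1⟩ := hlin (p * q - 1) (p + q * q - 1) (by
        rw [sub_smul, sub_smul, one_smul, one_smul]
        have := hT3.symm.trans htrel
        calc (p * q) • (1 : M3) - 1 + ((p + q * q) • T - T)
            = ((p * q) • (1 : M3) + (p + q * q) • T) - (T + 1) := by abel
          _ = 0 := sub_eq_zero.mpr this)
      have hqq : q ^ 3 + q + 1 = 0 := by linear_combination (-1 : F) * e0 + q * e1 + q * h2
      rcases eq_or_ne q 0 with rfl | hq0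
      · simp at hqq
      · have h3 := FiniteField.pow_card_sub_one_eq_one q hq0
        rw [hq] at h3
        rw [h3] at hqq
        exact hq0 (by linear_combination hqq - h2)
  let v : Fin 3 → F := Pi.single 0 1
  let B : M3 := Matrix.of fun i j => ((T ^ (j : ℕ)) *ᵥ v) i
  have hB : ∀ a, B *ᵥ a = L a *ᵥ v := by
    intro a
    funext i
    simp only [L, B, Matrix.mulVec, dotProduct, Fin.sum_univ_three, Matrix.of_apply, Fin.val_zero, Fin.val_one,
      Fin.val_two, pow_zero, pow_one, Matrix.add_apply, Matrix.smul_apply, smul_eq_mul]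
    ring
  have hkv : ∀ k ∈ K, k *ᵥ v = 0 → k = 0 := by
    intro k hk h
    by_contra h0
    obtain ⟨i, rfl⟩ := hgen k hk h0
    have hv : v = 0 := Matrix.mulVec_injective_iff_isUnit.mpr (u.isUnit.pow i) (h.trans (Matrix.mulVec_zero _).symm)
    simp [v] at hv
  have hBunit : IsUnit B := by
    rw [← Matrix.mulVec_injective_iff_isUnit]
    intro a b hab
    have : L (a - b) = 0 := hkv _ (hLK _) (by rw [← hB, Matrix.mulVec_sub, hab, sub_self])
    exact sub_eq_zero.mp (hL0 _ this)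
  obtain ⟨P, hP⟩ := hBunit
  -- the ring of rational combinations
  let R : Set M3 := {M | ∃ a : Fin 3 → F, (∀ i, a i ∈ F₀) ∧ M = L a}
  have hRadd : ∀ M N, M ∈ R → N ∈ R → M + N ∈ R := by
    rintro _ _ ⟨a, ha, rfl⟩ ⟨b, hb, rfl⟩
    exact ⟨a + b, fun i => F₀.add_mem (ha i) (hb i), by simp only [L, Pi.add_apply, add_smul]; abel⟩
  have hRsmul : ∀ (c : F) (M), c ∈ F₀ → M ∈ R → c • M ∈ R := by
    rintro c _ hc ⟨a, ha, rfl⟩
    exact ⟨c • a, fun i => F₀.mul_mem hc (ha i), by simp only [L, Pi.smul_apply, smul_eq_mul, smul_add, smul_smul]⟩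
  have hRT : ∀ M, M ∈ R → T * M ∈ R := by
    rintro _ ⟨a, ha, rfl⟩
    refine ⟨![a 2, a 0 + a 2, a 1], fun i => ?_, ?_⟩
    · fin_cases i
      exacts [ha 2, F₀.add_mem (ha 0) (ha 2), ha 1]
    · simp only [L, mul_add, Matrix.mul_smul, mul_one, ← pow_two, ← pow_succ', Matrix.cons_val_zero,
        Matrix.cons_val_one, Matrix.cons_val_two, Matrix.head_cons, Matrix.tail_cons]
      rw [show (2 + 1 : ℕ) = 3 from rfl, show T ^ 3 = T + 1 from htrel, smul_add, add_smul]
      abel
  have hR1 : (1 : M3) ∈ R := ⟨![1, 0, 0], fun i => by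
    fin_cases i
    exacts [F₀.one_mem, F₀.zero_mem, F₀.zero_mem], by simp [L]⟩
  have hRpow : ∀ m : ℕ, T ^ m ∈ R := by
    intro m
    induction m with
    | zero => rw [pow_zero]; exact hR1
    | succ m ih => rw [pow_succ']; exact hRT _ ih
  have hrat : ∀ w, MaxSub.RatVec F₀ P w ↔ ∃ M ∈ R, w = M *ᵥ v := by
    intro w
    constructor
    · intro hw
      obtain ⟨a, ha, rfl⟩ := hw.eq_mulVec
      exact ⟨L a, ⟨a, ha, rfl⟩, by rw [hP, hB]⟩
    · rintro ⟨_, ⟨a, ha, rfl⟩, rfl⟩
      rw [← hB, ← hP]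
      exact (MaxSub.ratVec_mulVec a).mpr ha
  have htmem : t ∈ subfieldSubgroup F₀ P := by
    refine MaxSub.mem_subfieldSubgroup fun w hw => ?_
    obtain ⟨M, hM, rfl⟩ := (hrat w).mp hw
    rw [Matrix.mulVec_mulVec]
    exact (hrat _).mpr ⟨_, hRT M hM, rfl⟩
  have hzmem : ∀ z ∈ scalars (Fin 3) F, z ∈ subfieldSubgroup F₀ P := fun z hz =>
    ⟨z, Subgroup.mem_sup_right hz, by
      rw [MulEquiv.coe_toMonoidHom, MulAut.conj_apply, scalars_comm hz P, mul_inv_cancel_right]⟩
  have hu3 : u ^ 3 ∈ subfieldSubgroup F₀ P := by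
    obtain ⟨z, hz, hz21⟩ := h21
    obtain ⟨a, ha⟩ := ht9
    have : u ^ 3 = z * (t ^ a) ^ 5 := by
      rw [← hz21, ← ha, ← pow_mul, ← pow_add, show 21 + 9 * 5 = 63 + 3 by norm_num, pow_add, hu63, one_mul]
    rw [this]
    exact mul_mem (hzmem z hz) (pow_mem (pow_mem htmem _) _)
  refine ⟨F₀, P, hF₀c, fun h => ?_, ?_⟩
  · rw [h, Nat.card_congr (Subfield.topEquiv (K := F)).toEquiv, Nat.card_eq_fintype_card, hq] at hF₀c
    omega
  rintro g ⟨hgN, hgS⟩
  -- conjugation sends t to a power of t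
  have hconj : ∃ m : ℕ, (g : M3) * T = T ^ m * (g : M3) := by
    have hy : (g : M3) * T * ((g⁻¹ : GL3) : M3) ∈ K := (hgN T).mp ht
    have hy' : (g : M3) * T * ((g⁻¹ : GL3) : M3) = ((g * t * g⁻¹ : GL3) : M3) := rfl
    obtain ⟨i, hi⟩ := hgen _ hy (by rw [hy']; exact Units.ne_zero _)
    have hgi : g * t * g⁻¹ = u ^ i := Units.ext (by rw [← hy', hi, Units.val_pow_eq_pow_val])
    have ht7 : t ^ 7 = 1 := by
      refine Units.ext ?_
      rw [Units.val_pow_eq_pow_val, Units.val_one]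
      show T ^ 7 = 1
      have e3 : T ^ 3 = T + 1 := htrel
      calc T ^ 7 = T ^ 3 * T ^ 3 * T := by simp only [← pow_succ, ← pow_add]
        _ = (T + 1) * (T + 1) * T := by rw [e3]
        _ = T ^ 3 + ((T ^ 2 + T ^ 2) + T) := by noncomm_ring
        _ = T + 1 + T := by rw [htwo, zero_add, e3]
        _ = 1 := by rw [show T + 1 + T = T + T + 1 by abel, htwo, zero_add]
    have hi7 : u ^ (i * 7) = 1 := by
      rw [pow_mul, ← hgi, conj_pow, ht7, mul_one, mul_inv_cancel]
    obtain ⟨j, rfl⟩ : 9 ∣ i := by have := hdvd hi7; omega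
    obtain ⟨a, ha⟩ := ht9
    refine ⟨a * j, ?_⟩
    have : g * t = t ^ (a * j) * g := by
      rw [pow_mul, ← ha, ← pow_mul, ← hgi, inv_mul_cancel_right]
    have := congrArg (fun x : GL3 => (x : M3)) this
    simpa using this
  obtain ⟨m, hm⟩ := hconj
  have hgpow : ∀ k : ℕ, (g : M3) * T ^ k = T ^ (m * k) * (g : M3) := by
    intro k
    induction k with
    | zero => simp
    | succ k ih =>
      rw [pow_succ, ← mul_assoc, ih, mul_assoc, hm, ← mul_assoc, ← pow_add]
      rfl
  obtain ⟨a, hga⟩ : ∃ a, (g : M3) *ᵥ v = L a *ᵥ v :=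
    ⟨((P⁻¹ : GL3) : M3) *ᵥ ((g : M3) *ᵥ v), by
      rw [← hB, ← hP, Matrix.mulVec_mulVec, Matrix.mulVec_mulVec, ← Units.val_mul, ← Units.val_mul,
        mul_inv_cancel, one_mul]⟩
  obtain ⟨i, hi⟩ := hgen (L a) (hLK a) (by
    intro h
    rw [h, Matrix.zero_mulVec] at hga
    have hv : v = 0 := mulVec_injective g (hga.trans (Matrix.mulVec_zero _).symm)
    simp [v] at hv)
  have hg' : (u ^ i)⁻¹ * g ∈ subfieldSubgroup F₀ P := by
    refine MaxSub.mem_subfieldSubgroup fun w hw => ?_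
    obtain ⟨_, ⟨b, hb, rfl⟩, rfl⟩ := (hrat w).mp hw
    refine (hrat _).mpr ⟨b 0 • (1 : M3) + b 1 • T ^ m + b 2 • T ^ (m * 2), ?_, ?_⟩
    · exact hRadd _ _ (hRadd _ _ (hRsmul _ _ (hb 0) hR1) (hRsmul _ _ (hb 1) (hRpow m)))
        (hRsmul _ _ (hb 2) (hRpow _))
    · set E := b 0 • (1 : M3) + b 1 • T ^ m + b 2 • T ^ (m * 2) with hE
      have hgL : (g : M3) * L b = E * (g : M3) := by
        simp only [L, hE, mul_add, add_mul, Matrix.mul_smul, Matrix.smul_mul, mul_one, one_mul, hm, hgpow]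
      have hEK : E ∈ K := K.add_mem (K.add_mem (K.smul_mem K.one_mem _) (K.smul_mem (K.pow_mem ht m) _))
        (K.smul_mem (K.pow_mem ht _) _)
      have hcm : E * (u : M3) ^ i = (u : M3) ^ i * E := hK.comm E hEK _ (hmemK i)
      rw [Units.val_mul, ← Matrix.mulVec_mulVec, Matrix.mulVec_mulVec v (g : M3), hgL, ← Matrix.mulVec_mulVec,
        hga, Matrix.mulVec_mulVec v E, hi, hcm, Matrix.mulVec_mulVec, ← mul_assoc, ← Units.val_pow_eq_pow_val,
        ← Units.val_mul, inv_mul_cancel, Units.val_one, one_mul]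
  have hdetu : (u : M3).det ≠ 1 := det_gen_ne_one hq hK hu hgen
  have hdet3 : (u : M3).det ^ 3 = 1 := by
    have := FiniteField.pow_card_sub_one_eq_one (u : M3).det
      ((Matrix.isUnit_iff_isUnit_det _).mp u.isUnit).ne_zero
    rwa [hq] at this
  have hgdet : (g : M3).det = 1 := congrArg Units.val (MonoidHom.mem_ker.mp hgS)
  have hid : (u : M3).det ^ i = 1 := by
    have h1 := det_subfieldSubgroup hq hF₀ hg'
    have h2' : ((u ^ i : GL3) : M3).det * (((u ^ i)⁻¹ * g : GL3) : M3).det = 1 := by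
      rw [← Matrix.det_mul, ← Units.val_mul, mul_inv_cancel_left, hgdet]
    rwa [h1, mul_one, Units.val_pow_eq_pow_val, Matrix.det_pow] at h2'
  obtain ⟨l, rfl⟩ : 3 ∣ i := by
    haveI : Fact (Nat.Prime 3) := ⟨Nat.prime_three⟩
    exact (orderOf_eq_prime hdet3 hdetu) ▸ orderOf_dvd_of_pow_eq_one hid
  have := mul_mem (pow_mem hu3 l) hg'
  rwa [← pow_mul, mul_inv_cancel_left] at this

end Cfsg.Agent.Lib.KnownA.PrimeDim
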