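import Cfsg.Agent.Lib.KnownA.PrimeDim.Clifford
import Cfsg.Agent.Lib.PrimeDim.FormDescent

/-!
Forms fixed by an absolutely irreducible group are unique up to a scalar.
-/

set_option autoImplicit false
set_option linter.style.haveILetI false
set_option linter.unusedSimpArgs false
set_option linter.unusedSectionVars false

namespace Cfsg.Agent.Lib.KnownA.PrimeDim

open Matrix
open scoped Matrix
open Cfsg.Agent.Lib.PrimeDim

variable {ι : Type} [Fintype ι] [DecidableEq ι] {F : Type*} [Field F]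

local notation "GLn" => Matrix.GeneralLinearGroup ι F
local notation "MM" => Matrix ι ι F
local notation "VV" => (ι → F)

/-- The normaliser of an absolutely irreducible isometry group consists of similarities. -/
theorem mem_similarityGroup_of_normalises [Nonempty ι] {σ : F ≃+* F} {f : VV → VV → F}
    (al : ∀ x y v, f (x + y) v = f x v + f y v) (sl : ∀ (c : F) x v, f (c • x) v = c * f x v)
    (ar : ∀ v x y, f v (x + y) = f v x + f v y) (sr : ∀ (c : F) v x, f v (c • x) = σ c * f v x)
    (hnd : Cfsg.Geo.IsNondegenerateForm f) {P : Subgroup GLn}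
    (habs : Cfsg.Geo.ActsAbsolutelyIrreducibly (Cfsg.Geo.matrixSet P))
    (hfix : Cfsg.Geo.FixesForm (Cfsg.Geo.matrixSet P) f) {h : GLn}
    (hn : ∀ x ∈ P, h * x * h⁻¹ ∈ P) : h ∈ Cfsg.Geo.similarityGroup f := by
  let s : F →+* F := σ.toRingHom
  have hform := FormDescent.form_eq s f al sl ar sr
  have hG := FormDescent.gram_isUnit s f hform hnd
  have hPG := FormDescent.fixes_gram s f hform hfix
  have hPG' : ∀ p ∈ P, (p : MM)ᵀ * ((h : MM)ᵀ * Cfsg.Geo.gramMatrix f * (h : MM).map s) * (p : MM).map s =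
      (h : MM)ᵀ * Cfsg.Geo.gramMatrix f * (h : MM).map s := by
    intro p hp
    have e : (h * p * h⁻¹) * h = h * p := by group
    have h2 := hPG _ (hn p hp)
    generalize h * p * h⁻¹ = q at e h2
    calc (p : MM)ᵀ * ((h : MM)ᵀ * Cfsg.Geo.gramMatrix f * (h : MM).map s) * (p : MM).map s
        = ((h : MM) * (p : MM))ᵀ * Cfsg.Geo.gramMatrix f * ((h : MM) * (p : MM)).map s := by
          simp only [Matrix.transpose_mul, Matrix.map_mul, mul_assoc]
      _ = (h : MM)ᵀ * ((q : MM)ᵀ * Cfsg.Geo.gramMatrix f * (q : MM).map s) * (h : MM).map s := by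
          rw [← Units.val_mul h p, ← e, Units.val_mul, Matrix.transpose_mul, Matrix.map_mul]
          simp only [mul_assoc]
      _ = _ := by rw [h2]
  obtain ⟨U, hU⟩ := hG
  generalize hA : (h : MM)ᵀ * Cfsg.Geo.gramMatrix f * (h : MM).map s = A at hPG'
  rw [← hU] at hPG
  obtain ⟨c, hc⟩ := habs.2 ((A * ((U⁻¹ : GLn) : MM))ᵀ) (by
    rintro _ ⟨p, hp, rfl⟩
    apply Matrix.transpose_injective
    simp only [Matrix.transpose_mul, Matrix.transpose_transpose]
    obtain ⟨V, hV⟩ : IsUnit (((p : MM)).map s) := RingHom.isUnit_map (s.mapMatrix) p.isUnit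
    have e1 := hPG p hp
    have e2 := hPG' p hp
    rw [← hV] at e1 e2
    have e3 : ((U⁻¹ : GLn) : MM) * (p : MM)ᵀ * (U : MM) = ((V⁻¹ : GLn) : MM) := by
      calc ((U⁻¹ : GLn) : MM) * (p : MM)ᵀ * (U : MM)
          = ((U⁻¹ : GLn) : MM) * ((p : MM)ᵀ * (U : MM) * (V : MM)) * ((V⁻¹ : GLn) : MM) := by
            simp only [mul_assoc, Units.mul_inv, mul_one]
        _ = _ := by rw [e1, Units.inv_mul, one_mul]
    have e4 : (p : MM)ᵀ * A = A * ((V⁻¹ : GLn) : MM) := by
      calc (p : MM)ᵀ * A = (p : MM)ᵀ * A * (V : MM) * ((V⁻¹ : GLn) : MM) := by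
            simp only [mul_assoc, Units.mul_inv, mul_one]
        _ = _ := by rw [e2]
    calc (p : MM)ᵀ * (A * ((U⁻¹ : GLn) : MM))
        = A * (((U⁻¹ : GLn) : MM) * (p : MM)ᵀ * (U : MM)) * ((U⁻¹ : GLn) : MM) := by
          rw [e3, ← mul_assoc, e4]
      _ = A * ((U⁻¹ : GLn) : MM) * (p : MM)ᵀ := by
          simp only [mul_assoc, Units.mul_inv, mul_one])
  have hAc : A = c • Cfsg.Geo.gramMatrix f := by
    have h1 : A * ((U⁻¹ : GLn) : MM) = c • 1 := by
      rw [← Matrix.transpose_transpose (A * _), hc, Matrix.transpose_smul, Matrix.transpose_one]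
    calc A = A * ((U⁻¹ : GLn) : MM) * (U : MM) := by simp only [mul_assoc, Units.inv_mul, mul_one]
      _ = _ := by rw [h1, Matrix.smul_mul, one_mul, hU]
  have hval : ∀ u v, f ((h : MM) *ᵥ u) ((h : MM) *ᵥ v) = c * f u v := by
    intro u v
    have h1 := FormDescent.gram_congr s f hform 1 u v
    rw [Matrix.transpose_one, one_mul, Matrix.map_one _ s.map_zero s.map_one, mul_one, Matrix.one_mulVec,
      Matrix.one_mulVec] at h1
    rw [FormDescent.gram_congr s f hform, hA, hAc, Matrix.smul_mulVec, dotProduct_smul, smul_eq_mul, ← h1]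
  have hc0 : c ≠ 0 := by
    rintro rfl
    have hv : (Pi.single (Classical.arbitrary ι) 1 : VV) ≠ 0 := by simp
    obtain ⟨x, hx⟩ := (hnd _ hv).1
    apply hx
    have := hval (((h⁻¹ : GLn) : MM) *ᵥ x) (((h⁻¹ : GLn) : MM) *ᵥ Pi.single (Classical.arbitrary ι) 1)
    rwa [mul_inv_cancel_vec, mul_inv_cancel_vec, zero_mul] at this
  exact ⟨Units.mk0 c hc0, hval⟩

/-- Fixing a quadratic form entails fixing its polar form. -/
theorem fixesForm_polar {S : Set MM} {Q : VV → F} (hfix : Cfsg.Geo.FixesQuadForm S Q) :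
    Cfsg.Geo.FixesForm S (QuadraticMap.polar Q) := fun s hs u v => by
  simp only [QuadraticMap.polar, ← Matrix.mulVec_add, hfix s hs]

theorem gram_eq_of_fixes {f : VV → VV → F} (hf : Cfsg.Geo.IsBilinearForm f) {P : Subgroup GLn}
    (hfix : Cfsg.Geo.FixesForm (Cfsg.Geo.matrixSet P) f) :
    ∀ s ∈ Cfsg.Geo.matrixSet P, sᵀ * Cfsg.Geo.gramMatrix f * s = Cfsg.Geo.gramMatrix f := by
  rintro _ ⟨p, hp, rfl⟩
  have := FormDescent.fixes_gram (RingHom.id F) f
    (FormDescent.form_eq _ f hf.add_left hf.smul_left hf.add_right fun c v x => hf.smul_right c v x) hfix p hp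
  rwa [show (p : MM).map (RingHom.id F) = (p : MM) by ext; rfl] at this

theorem gram_isUnit' {f : VV → VV → F} (hf : Cfsg.Geo.IsBilinearForm f)
    (hnd : Cfsg.Geo.IsNondegenerateForm f) : IsUnit (Cfsg.Geo.gramMatrix f) :=
  FormDescent.gram_isUnit (RingHom.id F) f
    (FormDescent.form_eq _ f hf.add_left hf.smul_left hf.add_right fun c v x => hf.smul_right c v x) hnd

/-- In odd dimension an absolutely irreducible group fixing a quadratic form forces odd characteristic. -/
theorem two_ne_zero_of_quad [Finite F] (hodd : Odd (Fintype.card ι)) (hcard : 1 < Fintype.card ι)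
    {Q : VV → F} (hQ : Cfsg.Geo.IsNondegenerateQuadraticForm Q) {P : Subgroup GLn}
    (habs : Cfsg.Geo.ActsIrreducibly (Cfsg.Geo.matrixSet P))
    (hfix : Cfsg.Geo.FixesQuadForm (Cfsg.Geo.matrixSet P) Q) : (2 : F) ≠ 0 := by
  haveI : Nonempty ι := Fintype.card_pos_iff.mp (by omega)
  refine FormDescent.two_ne_zero_of_symm hodd hcard _ habs (gram_isUnit' hQ.polar_bilinear hQ.nondegenerate) ?_
    (gram_eq_of_fixes hQ.polar_bilinear (fixesForm_polar hfix))
  ext i j
  exact QuadraticMap.polar_comm Q _ _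

/-- There is no fixed symplectic form in odd dimension. -/
theorem not_symplectic [Finite F] (hodd : Odd (Fintype.card ι)) (hcard : 1 < Fintype.card ι)
    {f : VV → VV → F} (hf : Cfsg.Geo.IsSymplecticForm f) {P : Subgroup GLn}
    (habs : Cfsg.Geo.ActsIrreducibly (Cfsg.Geo.matrixSet P))
    (hfix : Cfsg.Geo.FixesForm (Cfsg.Geo.matrixSet P) f) : False := by
  haveI : Nonempty ι := Fintype.card_pos_iff.mp (by omega)
  have hG := gram_isUnit' hf.bilinear hf.nondegenerate
  by_cases h2 : (2 : F) = 0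
  · refine FormDescent.two_ne_zero_of_symm hodd hcard _ habs hG ?_ (gram_eq_of_fixes hf.bilinear hfix) h2
    ext i j
    show f (Pi.single j 1) (Pi.single i 1) = f (Pi.single i 1) (Pi.single j 1)
    have := hf.skew (Pi.single i 1) (Pi.single j 1)
    linear_combination (-1 : F) * this + (f (Pi.single j (1 : F)) (Pi.single i (1 : F))) * h2
  · have ht : (Cfsg.Geo.gramMatrix f)ᵀ = -Cfsg.Geo.gramMatrix f := by
      ext i j
      exact hf.skew _ _
    have hd := congrArg Matrix.det ht
    rw [Matrix.det_transpose, Matrix.det_neg, hodd.neg_one_pow, neg_one_mul] at hd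
    refine ((Matrix.isUnit_iff_isUnit_det _).1 hG).ne_zero ((mul_eq_zero.1 ?_).resolve_left h2)
    linear_combination hd

/-- The normaliser of an absolutely irreducible orthogonal group, in odd characteristic. -/
theorem mem_quadSimilarityGroup_of_normalises [Nonempty ι] (h2 : (2 : F) ≠ 0) {Q : VV → F}
    (hQ : Cfsg.Geo.IsNondegenerateQuadraticForm Q) {P : Subgroup GLn}
    (habs : Cfsg.Geo.ActsAbsolutelyIrreducibly (Cfsg.Geo.matrixSet P))
    (hfix : Cfsg.Geo.FixesQuadForm (Cfsg.Geo.matrixSet P) Q) {h : GLn}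
    (hn : ∀ x ∈ P, h * x * h⁻¹ ∈ P) : h ∈ Cfsg.Geo.quadSimilarityGroup Q := by
  obtain ⟨c, hc⟩ := mem_similarityGroup_of_normalises (σ := RingEquiv.refl F) hQ.polar_bilinear.add_left
    hQ.polar_bilinear.smul_left hQ.polar_bilinear.add_right (fun c v x => hQ.polar_bilinear.smul_right c v x)
    hQ.nondegenerate habs (fixesForm_polar hfix) hn
  refine ⟨c, fun v => ?_⟩
  have key : ∀ w : VV, QuadraticMap.polar Q w w = 2 * Q w := by
    intro w
    unfold QuadraticMap.polar
    rw [show w + w = (2 : F) • w by rw [two_smul], hQ.smul]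
    ring
  have := hc v v
  rw [key, key] at this
  exact mul_left_cancel₀ h2 (by linear_combination this)

end Cfsg.Agent.Lib.KnownA.PrimeDim
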