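import Cfsg.Agent.Lib.KnownA.PrimeDim.Core
import Cfsg.Agent.Lib.KnownA.PrimeDim.Basic
import Cfsg.Agent.Lib.KnownA.PrimeDim.Lines
import Cfsg.Agent.Lib.LinearMax.Forms
import Cfsg.Agent.Lib.PrimeDim.SympType
import Cfsg.Agent.Lib.KnownA.PrimeDim.Schur

/-!
Maximal subgroups of the special linear group of prime degree.
-/

set_option autoImplicit false
set_option linter.style.haveILetI false
set_option linter.unusedSimpArgs false

namespace Cfsg.Agent.Lib.KnownA.PrimeDim

open Matrix Cfsg.Geo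
open scoped Matrix commutatorElement
open Cfsg.Agent.Lib

variable {n : ℕ} {F : Type*} [Field F]

local notation "GLn" => Matrix.GeneralLinearGroup (Fin n) F
local notation "MM" => Matrix (Fin n) (Fin n) F
local notation "VV" => (Fin n → F)
local notation "SS" => Cfsg.Geo.specialLinear (Fin n) F
local notation "ZZ" => Cfsg.Geo.scalars (Fin n) F

theorem scalar_of_comm_SS (hn : 3 ≤ n) {M : MM} (h : ∀ g ∈ SS, (g : MM) * M = M * (g : MM)) :
    ∃ c : F, M = c • (1 : MM) := by
  have key : ∀ w : VV, M *ᵥ w ∈ F ∙ w := by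
    intro w
    by_contra hw
    obtain ⟨φ, hφ, hφw⟩ := MaxSub.exists_functional _ hw
    have h0 : φ ⬝ᵥ w = 0 := hφ w (Submodule.mem_span_singleton_self w)
    have e := congrArg (fun A : MM => A *ᵥ w) (h _ (MaxSub.tv_mem_specialLinear w φ h0))
    simp only [← Matrix.mulVec_mulVec] at e
    rw [MaxSub.tv_mulVec, MaxSub.tv_mulVec, hφw, one_smul, h0, zero_smul, add_zero] at e
    have : w = 0 := by simpa using e
    exact hw (by rw [this, Matrix.mulVec_zero]; exact zero_mem _)
  choose c hc using fun w => Submodule.mem_span_singleton.mp (key w)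
  let i0 : Fin n := ⟨0, by omega⟩
  have hceq : ∀ i, c (Pi.single i 1) = c (Pi.single i0 1) := by
    intro i
    by_cases hi : i = i0
    · rw [hi]
    have e := hc (Pi.single i 1 + Pi.single i0 1)
    rw [Matrix.mulVec_add, ← hc (Pi.single i 1), ← hc (Pi.single i0 1)] at e
    have e1 := congrFun e i
    have e2 := congrFun e i0
    simp [hi, Ne.symm hi] at e1 e2
    exact e1.symm.trans e2
  refine ⟨c (Pi.single i0 1), Matrix.ext_of_mulVec_single fun i => ?_⟩
  rw [Matrix.smul_mulVec, Matrix.one_mulVec, ← hc (Pi.single i 1), hceq i]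

theorem not_le_subalgebraNormalizer [Finite F] (hp : n.Prime) (hn : 3 ≤ n) {K : Subalgebra F MM}
    (hK : IsFieldSubalgebra n K) : ¬ SS ≤ subalgebraNormalizer K := by
  intro hle
  refine not_isFieldSubalgebra_scalar (ι := Fin n) (by rwa [Fintype.card_fin]) (K := K)
    (by rwa [Fintype.card_fin]) fun k hk => scalar_of_comm_SS hn fun g hg => ?_
  rw [← SS_perfect hn] at hg
  induction hg using Subgroup.closure_induction with
  | mem v hv =>
    obtain ⟨a, ha, b, hb, rfl⟩ := hv
    exact commutator_centralizes (ι := Fin n) (by rw [Fintype.card_fin]; omega) hK (hle ha) (hle hb) hk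
  | one => simp
  | mul a b _ _ iha ihb => rw [Units.val_mul, mul_assoc, ihb, ← mul_assoc, iha, mul_assoc]
  | inv a _ iha => exact ((show Commute (a : MM) k from iha).units_inv_left).eq

theorem no_symplectic_odd [Finite F] (hodd : Odd n) {f : VV → VV → F} (hf : IsSymplecticForm f) : False := by
  have hG := gram_isUnit' hf.bilinear hf.nondegenerate
  have hu := ((Matrix.isUnit_iff_isUnit_det _).1 hG).ne_zero
  by_cases h2 : (2 : F) = 0
  · refine hu (PrimeDim.FormDescent.det_alt_char_two h2 (by rwa [Fintype.card_fin]) (gramMatrix f) ?_ fun i => hf.alternating _)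
    ext i j
    show f (Pi.single j 1) (Pi.single i 1) = f (Pi.single i 1) (Pi.single j 1)
    have := hf.skew (Pi.single i 1) (Pi.single j 1)
    linear_combination (-1 : F) * this + (f (Pi.single j (1 : F)) (Pi.single i (1 : F))) * h2
  · have ht : (gramMatrix f)ᵀ = -gramMatrix f := by
      ext i j
      exact hf.skew _ _
    have hd := congrArg Matrix.det ht
    rw [Matrix.det_transpose, Matrix.det_neg, Fintype.card_fin, hodd.neg_one_pow, neg_one_mul] at hd
    refine hu ((mul_eq_zero.1 ?_).resolve_left h2)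
    linear_combination hd

/-- The cases of the classification, before the restrictions on the field in the field and class six cases. -/
def Cases [Fintype F] (n : ℕ) (H : Subgroup (Matrix.GeneralLinearGroup (Fin n) F)) : Prop :=
  (∃ W : Submodule F (Fin n → F), W ≠ ⊥ ∧ W ≠ ⊤ ∧ H = subspaceStabilizer W ⊓ specialLinear (Fin n) F) ∨
  (5 ≤ Fintype.card F ∧ ∃ D : Fin n → Submodule F (Fin n → F), IsMDecomposition 1 D ∧
    H = decompositionStabilizer D ⊓ specialLinear (Fin n) F) ∨
  (∃ K : Subalgebra F (Matrix (Fin n) (Fin n) F), IsFieldSubalgebra n K ∧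
    H = subalgebraNormalizer K ⊓ specialLinear (Fin n) F) ∨
  (∃ (F₀ : Subfield F) (r : ℕ) (P : Matrix.GeneralLinearGroup (Fin n) F), r.Prime ∧
    Fintype.card F = Nat.card F₀ ^ r ∧ H = subfieldSubgroup F₀ P ⊓ specialLinear (Fin n) F) ∨
  (∃ R : Subgroup (Matrix.GeneralLinearGroup (Fin n) F), IsLinearSymplecticTypeData n R ∧
    H = subgroupNormalizer R ⊓ specialLinear (Fin n) F) ∨
  (Odd (Fintype.card F) ∧ ∃ Q : (Fin n → F) → F, IsNondegenerateQuadraticForm Q ∧
    H = quadSimilarityGroup Q ⊓ specialLinear (Fin n) F) ∨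
  (∃ (σ : F ≃+* F) (f : (Fin n → F) → (Fin n → F) → F), IsUnitaryForm σ f ∧
    H = similarityGroup f ⊓ specialLinear (Fin n) F) ∨
  InLinearResidualClass H

/-- **Maximal subgroups of the special linear group in odd prime degree.** -/
theorem cases_of_maximal [Fintype F] (hp : n.Prime) (hn : 3 ≤ n) {H : Subgroup GLn}
    (hH : IsMaximalIn SS H) : Cases n H := by
  classical
  have hodd : Odd n := hp.odd_of_ne_two (by omega)
  have hp' : Nat.Prime (Fintype.card (Fin n)) := by rwa [Fintype.card_fin]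
  haveI : Nonempty (Fin n) := ⟨⟨0, by omega⟩⟩
  by_cases hirr : ActsIrreducibly (matrixSet H)
  swap
  · rw [actsIrreducibly_iff] at hirr
    push Not at hirr
    obtain ⟨W, hW, h0, h1⟩ := hirr
    refine Or.inl ⟨W, h0, h1, eq_inf_of_le hH (fun g hg v => ?_) (not_le_subspaceStabilizer h0 h1)⟩
    exact ⟨fun hv => hW g hg v hv, fun hv => by
      have := hW g⁻¹ (inv_mem hg) _ hv
      rw [show (glToMat (Fin n) F g : MM) = (g : MM) from rfl, inv_mul_cancel_vec] at this
      exact this⟩
  have hHs : ¬ H ≤ ZZ := by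
    intro hsub
    let e : VV := Pi.single (Classical.arbitrary (Fin n)) 1
    rcases (actsIrreducibly_iff H).mp hirr (F ∙ e) (fun g hg w hw => by
        obtain ⟨c, hc⟩ := (mem_scalars_iff g).mp (hsub hg)
        rw [hc, Matrix.smul_mulVec, Matrix.one_mulVec]
        exact Submodule.smul_mem _ _ hw) with h | h
    · simp [e] at h
    · have := congrArg (fun W : Submodule F VV => Module.finrank F W) h
      simp only [finrank_span_singleton (show e ≠ 0 by simp [e]), finrank_top, Module.finrank_fin_fun] at this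
      omega
  obtain ⟨N, hNH, hNn, hNs, hZN, hmin⟩ := exists_minimal hHs
  rcases clifford (G := H) hp' hirr hNn hNs with hNirr | ⟨b, -, hmono⟩
  swap
  · -- monomial
    have hle : H ≤ decompositionStabilizer fun i => F ∙ b i := by
      intro g hg
      obtain ⟨σ, a, ha⟩ := hmono g hg
      refine ⟨σ, fun i => ?_⟩
      have ha0 : a i ≠ 0 := fun h0 => b.ne_zero i (mulVec_injective g (by
        rw [ha i, h0, zero_smul, Matrix.mulVec_zero]))
      rw [Submodule.map_span, Set.image_singleton, Matrix.toLin'_apply, ha i,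
        Submodule.span_singleton_smul_eq (Ne.isUnit ha0)]
    have hD := isMDecomposition_basis hn b
    have h2 : 2 ≤ Fintype.card F := Fintype.one_lt_card
    by_cases h5 : 5 ≤ Fintype.card F
    · exact Or.inr (Or.inl ⟨h5, _, hD, eq_inf_of_le hH hle (not_le_decompositionStabilizer hn b)⟩)
    obtain h | h | h : Fintype.card F = 2 ∨ Fintype.card F = 3 ∨ Fintype.card F = 4 := by omega
    · obtain ⟨W, h0, h1, hW⟩ := le_line_of_card_two (by omega) h hD
      exact Or.inl ⟨W, h0, h1, eq_inf_of_le hH (hle.trans hW) (not_le_subspaceStabilizer h0 h1)⟩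
    · obtain ⟨Q, hQ, hle'⟩ := le_quad_of_card_three h hD
      exact Or.inr (Or.inr (Or.inr (Or.inr (Or.inr (Or.inl ⟨by rw [h]; decide, Q, hQ,
        eq_inf_of_le hH (hle.trans hle') (not_le_quadSimilarityGroup hn hQ)⟩)))))
    · obtain ⟨σ, f, hf, hle'⟩ := le_unitary_of_card_four h hD
      exact Or.inr (Or.inr (Or.inr (Or.inr (Or.inr (Or.inr (Or.inl ⟨σ, f, hf,
        eq_inf_of_le hH (hle.trans hle') (not_le_similarityGroup hn (Sesq.of_unitary hf) hf.nondegenerate)⟩))))))
  rcases comm_field hp' hNirr with hNcomm | hK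
  swap
  · have hK' : IsFieldSubalgebra n (comm N) := by rwa [Fintype.card_fin] at hK
    exact Or.inr (Or.inr (Or.inl ⟨_, hK', eq_inf_of_le hH (fun g hg => comm_normalized hNn hg)
      (not_le_subalgebraNormalizer hp hn hK')⟩))
  have hNabs : ActsAbsolutelyIrreducibly (matrixSet N) := ⟨hNirr, hNcomm⟩
  have hsubfield : ∀ {F₀ : Subfield F} {R : Subgroup GLn}, F₀ ≠ ⊤ → ActsAbsolutelyIrreducibly (matrixSet R) →
      (∀ h ∈ H, ∀ x ∈ R, h * x * h⁻¹ ∈ R) → RealisableOver F₀ (matrixSet R) → Cases n H := by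
    intro F₀ R h0 habs hnorm hreal
    obtain ⟨F₁, r, h1, hr, hc, B, hB⟩ := PrimeDim.FormDescent.exists_prime_index_realisable h0 hreal
    refine Or.inr (Or.inr (Or.inr (Or.inl ⟨F₁, r, B⁻¹, hr, by rw [← Nat.card_eq_fintype_card]; exact hc, ?_⟩)))
    exact eq_inf_of_le hH
      (fun h hh => PrimeDim.FormDescent.mem_subfieldSubgroup_of_normalises R habs
        (fun p hp => hB _ ⟨p, hp, rfl⟩) fun x hx => hnorm h hh x hx)
      (not_le_subfieldSubgroup hn h1 _)
  rcases class_two_or_core hp' hNH hNn hmin hNabs with hcomm | hC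
  swap
  · rcases LinearMax.forms hn hH hC.le hC.normal hC.perfect hC.simple hC.nonabelian hC.centralizer_scalar
      hC.absIrred with h | h | ⟨f, hf, -⟩ | h | h
    · exact Or.inr (Or.inr (Or.inr (Or.inl h)))
    · exact Or.inr (Or.inr (Or.inr (Or.inr (Or.inr (Or.inl h)))))
    · exact (no_symplectic_odd hodd hf).elim
    · exact Or.inr (Or.inr (Or.inr (Or.inr (Or.inr (Or.inr (Or.inl h))))))
    · exact Or.inr (Or.inr (Or.inr (Or.inr (Or.inr (Or.inr (Or.inr h))))))
  -- class six
  have hna : ∃ a ∈ N, ∃ b ∈ N, a * b ≠ b * a := by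
    by_contra hall
    push Not at hall
    refine hNs fun x hx => ?_
    obtain ⟨c, hc⟩ := hNabs.2 (x : MM) (by
      rintro _ ⟨y, hy, rfl⟩
      rw [← Units.val_mul, ← Units.val_mul, hall x hx y hy])
    exact mem_scalars_of_matrix (ι := Fin n) (by rw [Fintype.card_fin]; omega) hc
  have hdata := PrimeDim.SympType.Data.of_specialLinear (Fintype.card_fin n) hp (hNH.trans hH.1.le)
    (fun a ha b hb => by
      have := hcomm (Subgroup.commutator_mem_commutator ha hb)
      rwa [commutatorElement_def] at this) hna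
  have hab := hdata.abelian_le_scalars H hNn (fun B hB1 hB2 hBn => by
    by_cases hBs : B ≤ ZZ
    · exact Or.inl (le_antisymm (le_inf hB2 hBs) hB1)
    · right
      refine le_antisymm hB2 ((hmin B hB2 hBn hBs).ge.trans (sup_le le_rfl ?_))
      exact fun z hz => hB1 ⟨hZN hz, hz.1⟩)
  have hSS : ¬ SS ≤ subgroupNormalizer N := by
    refine not_le_normalizer hn (hNH.trans hH.1.le) hNs fun h => hNs ?_
    rw [h] at hcomm
    rw [SS_perfect hn] at hcomm
    exact (h.le).trans hcomm
  rcases hdata.classify hodd H hNn hab with ⟨F₀, h0, hreal⟩ | hd | ⟨σ, f, hf, -, hle'⟩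
  · exact hsubfield h0 hNabs hNn hreal
  · exact Or.inr (Or.inr (Or.inr (Or.inr (Or.inl ⟨N, hd, eq_inf_of_le hH hNn.le_normalizer hSS⟩))))
  · exact Or.inr (Or.inr (Or.inr (Or.inr (Or.inr (Or.inr (Or.inl ⟨σ, f, hf,
      eq_inf_of_le hH (hNn.le_normalizer.trans hle')
        (not_le_similarityGroup hn (Sesq.of_unitary hf) hf.nondegenerate)⟩))))))

/-- Numerical content of the class six data in prime degree. -/
theorem symplecticType_field [Fintype F] (hp : n.Prime) (hn : 3 ≤ n) {R : Subgroup GLn}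
    (h : IsLinearSymplecticTypeData n R) :
    ∃ p e : ℕ, p.Prime ∧ CharP F p ∧ Fintype.card F = p ^ e ∧ Odd e ∧ e < n ∧ 0 < p % n ∧ (p % n) ^ e % n = 1 ∧
      ∀ d : ℕ, 0 < d → d < e → (p % n) ^ d % n ≠ 1 := by
  obtain ⟨p, e, hne, hmf, hcase⟩ := h.field
  obtain ⟨he, hc⟩ : Odd e ∧ Nat.card (Subgroup.center R) = n := by
    rcases hcase with ⟨-, he, hc, -⟩ | ⟨h2, -⟩ | ⟨h2, -⟩
    · exact ⟨he, hc⟩
    · omega
    · omega
  obtain ⟨hp0, hchar, hcard, hdiv, hmind⟩ := hmf
  rw [hc] at hdiv hmind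
  have hiff : ∀ d : ℕ, n ∣ p ^ d - 1 ↔ (p % n) ^ d % n = 1 := by
    intro d
    rw [← Nat.pow_mod, ← Nat.modEq_iff_dvd' (Nat.one_le_pow _ _ hp0.pos), Nat.ModEq, Nat.one_mod_eq_one.mpr (by omega),
      eq_comm]
  have hpn : ¬ n ∣ p := fun hd => hne ((Nat.prime_dvd_prime_iff_eq hp hp0).mp hd)
  have hlt : e < n := by
    by_contra hge
    refine hmind (n - 1) (by omega) (by omega) ((hiff _).mpr ?_)
    haveI : Fact n.Prime := ⟨hp⟩
    have h1 := ZMod.pow_card_sub_one_eq_one (p := n) (a := ((p : ℕ) : ZMod n))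
      (fun h0 => hpn ((ZMod.natCast_eq_zero_iff p n).mp h0))
    rw [← Nat.cast_pow, ← Nat.cast_one (R := ZMod n), ZMod.natCast_eq_natCast_iff, Nat.ModEq,
      Nat.one_mod_eq_one.mpr (by omega)] at h1
    rwa [← Nat.pow_mod]
  exact ⟨p, e, hp0, hchar, hcard, he, hlt, Nat.pos_of_ne_zero fun h0 => hpn (Nat.dvd_of_mod_eq_zero h0),
    (hiff e).mp hdiv, fun d hd hde h => hmind d hd hde ((hiff d).mpr h)⟩

end Cfsg.Agent.Lib.KnownA.PrimeDim
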